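import Mathlib
import Cfsg.Prelude.Def_Blocks
import Cfsg.Agent.Characters.Core
import Cfsg.Agent.Characters.Linear
import Cfsg.Agent.Characters.Clifford
import Cfsg.Agent.Characters.DegreeBounds
import Cfsg.Agent.CharDeep.PowerDegrees

/-!
# Groups with exactly one irreducible character of degree divisible by `p`: basics (helper669)

* `charDegree_of_natCast`, `charDegree_eq`, `charDegree_pos`, `charDegree_dvd`;
* `isIrr_hom_mul`: an irreducible character times a linear character is irreducible;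
* `exists_unique`: the hypothesis `Nat.card {χ // p ∣ charDegree χ} = 1` unpacked;
* `isIrr_mulEquiv`, `isIrr_mk`: inflation.
-/

set_option autoImplicit false
open Cfsg
open scoped ComplexConjugate

namespace Cfsg.Agent.H669.Basic

open Cfsg.Agent.Characters.Core Cfsg.Agent.Characters.Linear

universe u

variable {G : Type u} [Group G]

theorem charDegree_of_natCast {χ : G → ℂ} {n : ℕ} (h : χ 1 = n) : charDegree χ = n := by
  show ⌊(χ 1).re⌋₊ = n
  rw [h, Complex.natCast_re, Nat.floor_natCast]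

theorem charDegree_eq {χ : G → ℂ} (hχ : IsIrrCharacter G χ) : χ 1 = (charDegree χ : ℂ) := by
  obtain ⟨n, -, hn⟩ := isIrr_apply_one hχ
  rw [charDegree_of_natCast hn, hn]

theorem charDegree_pos {χ : G → ℂ} (hχ : IsIrrCharacter G χ) : 0 < charDegree χ := by
  obtain ⟨n, h0, hn⟩ := isIrr_apply_one hχ
  rw [charDegree_of_natCast hn]; exact h0

theorem charDegree_dvd_card [Finite G] {χ : G → ℂ} (hχ : IsIrrCharacter G χ) :
    charDegree χ ∣ Nat.card G := by
  obtain ⟨n, ρ, hρ, h⟩ := hχ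
  have h1 : χ 1 = (n : ℂ) := by rw [← h]; simp
  rw [charDegree_of_natCast h1]
  have := hρ
  have := Cfsg.Agent.Characters.DegreeBounds.finrank_dvd_card ρ
  simpa using this

theorem charDegree_dvd_index_center [Finite G] {χ : G → ℂ} (hχ : IsIrrCharacter G χ) :
    charDegree χ ∣ (Subgroup.center G).index := by
  obtain ⟨n, ρ, hρ, h⟩ := hχ
  have h1 : χ 1 = (n : ℂ) := by rw [← h]; simp
  rw [charDegree_of_natCast h1]
  have := hρ
  have := Cfsg.Agent.Characters.DegreeBounds.finrank_dvd_index_center ρ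
  simpa using this

theorem norm_hom [Finite G] (f : G →* ℂˣ) (g : G) : (f g : ℂ) * conj (f g : ℂ) = 1 := by
  have h := norm_hom_apply f g
  rw [Complex.mul_conj, Complex.normSq_eq_norm_sq, h]; simp

/-- An irreducible character times a linear character is irreducible. -/
theorem isIrr_hom_mul [Finite G] (f : G →* ℂˣ) {χ : G → ℂ} (hχ : IsIrrCharacter G χ) :
    IsIrrCharacter G (fun g => (f g : ℂ) * χ g) := by
  have := Fintype.ofFinite G
  refine isIrr_of_classInner_self ?_ ?_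
  · exact isCharacter_mul (isCharacter_hom f) (isIrr_isCharacter hχ)
  · rw [classInner_def]
    have h := classInner_irr_self hχ
    rw [classInner_def] at h
    rw [← h]
    congr 1
    refine Finset.sum_congr rfl fun g _ => ?_
    rw [map_mul]
    have := norm_hom f g
    linear_combination (χ g * conj (χ g)) * this

/-- The hypothesis "exactly one irreducible character of degree divisible by `p`". -/
theorem exists_unique {p : ℕ}
    (hone : Nat.card {χ : IrrCharacter G // p ∣ charDegree (χ : G → ℂ)} = 1) :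
    ∃ χ : G → ℂ, IsIrrCharacter G χ ∧ p ∣ charDegree χ ∧
      ∀ ψ : G → ℂ, IsIrrCharacter G ψ → p ∣ charDegree ψ → ψ = χ := by
  obtain ⟨hs, ⟨⟨⟨χ, hχ⟩, h1⟩⟩⟩ := Nat.card_eq_one_iff_unique.1 hone
  refine ⟨χ, hχ, h1, fun ψ hψ h2 => ?_⟩
  have := hs.elim ⟨⟨ψ, hψ⟩, h2⟩ ⟨⟨χ, hχ⟩, h1⟩
  exact congrArg (fun x => (x.1.1 : G → ℂ)) this

theorem card_eq_one {p : ℕ} {χ : G → ℂ} (hχ : IsIrrCharacter G χ) (h1 : p ∣ charDegree χ)
    (h : ∀ ψ : G → ℂ, IsIrrCharacter G ψ → p ∣ charDegree ψ → ψ = χ) :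
    Nat.card {χ : IrrCharacter G // p ∣ charDegree (χ : G → ℂ)} = 1 := by
  rw [Nat.card_eq_one_iff_unique]
  refine ⟨⟨fun a b => ?_⟩, ⟨⟨⟨χ, hχ⟩, h1⟩⟩⟩
  apply Subtype.ext; apply Subtype.ext
  rw [h a.1.1 a.1.2 a.2, h b.1.1 b.1.2 b.2]

/-- Inflation from a quotient. -/
theorem isIrr_mk (N : Subgroup G) [N.Normal] {χ : G ⧸ N → ℂ} (hχ : IsIrrCharacter (G ⧸ N) χ) :
    IsIrrCharacter G (χ ∘ (QuotientGroup.mk' N)) :=
  isIrr_comp (QuotientGroup.mk' N) (QuotientGroup.mk'_surjective N) hχ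

theorem charDegree_comp {H : Type*} [Group H] (f : H →* G) (χ : G → ℂ) :
    charDegree (χ ∘ f) = charDegree χ := by
  show ⌊((χ ∘ f) 1).re⌋₊ = ⌊(χ 1).re⌋₊
  simp

theorem charDegree_hom_mul (f : G →* ℂˣ) (χ : G → ℂ) :
    charDegree (fun g => (f g : ℂ) * χ g) = charDegree χ := by
  show ⌊((f 1 : ℂ) * χ 1).re⌋₊ = ⌊(χ 1).re⌋₊
  simp

/-- In a noncommutative group there is a nonlinear irreducible character. -/
theorem exists_nonlinear [Finite G] (h : ∃ a b : G, a * b ≠ b * a) :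
    ∃ χ : G → ℂ, IsIrrCharacter G χ ∧ charDegree χ ≠ 1 := by
  by_contra hcon
  push Not at hcon
  obtain ⟨a, b, hab⟩ := h
  apply hab
  refine Cfsg.Agent.CharDeep.PowerDegrees.comm_of_forall_linear (fun χ => ?_) a b
  rw [charDegree_eq χ.2, hcon χ.1 χ.2]; simp

/-- In a noncommutative `p`-group there is an irreducible character of degree divisible
by `p`. -/
theorem exists_dvd_of_pGroup [Finite G] {p : ℕ} [hp : Fact p.Prime] (hG : IsPGroup p G)
    (h : ∃ a b : G, a * b ≠ b * a) :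
    ∃ χ : G → ℂ, IsIrrCharacter G χ ∧ p ∣ charDegree χ := by
  obtain ⟨χ, hχ, h1⟩ := exists_nonlinear h
  refine ⟨χ, hχ, ?_⟩
  obtain ⟨n, hn⟩ := IsPGroup.iff_card.1 hG
  have h2 := charDegree_dvd_card hχ
  rw [hn, Nat.dvd_prime_pow hp.out] at h2
  obtain ⟨k, -, hk⟩ := h2
  rw [hk]
  refine dvd_pow_self p ?_
  rintro rfl
  exact h1 (by simpa using hk)

/-- A nontrivial nilpotent group has a nontrivial homomorphism to `ℂˣ`. -/
theorem exists_hom_ne_one [Finite G] [Nontrivial G] [Group.IsNilpotent G] :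
    ∃ f : G →* ℂˣ, f ≠ 1 := by
  by_contra hcon
  push Not at hcon
  have h1 := card_hom_eq_index_commutator G
  have h2 : Nat.card (G →* ℂˣ) = 1 := by
    rw [Nat.card_eq_one_iff_unique]
    exact ⟨⟨fun a b => by rw [hcon a, hcon b]⟩, ⟨1⟩⟩
  rw [h2] at h1
  have h3 : commutator G = ⊤ := Subgroup.index_eq_one.1 h1.symm
  have := Group.IsSolvable.commutator_lt_top_of_nontrivial G
  exact this.ne h3

end Cfsg.Agent.H669.Basic
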