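import Mathlib
import Cfsg.Prelude.Def_Blocks
import Cfsg.Agent.Blocks.Elementary
import Cfsg.Agent.Blocks.ExistsModular
import Cfsg.Agent.Blocks.OrbitSum
import Cfsg.Agent.S0145
import Cfsg.Agent.H669.Basic

/-!
# Coprime action of a `p`-group: fixed characters and fixed classes (helper669)

`card_fixed_eq`: a finite `p`-group `A` acts on a finite group `N` of order prime to `p`; then `A`
fixes as many irreducible characters of `N` as conjugacy classes of `N` (Glauberman's permutation
lemma for `p`-groups). The proof only uses the orthogonality relations modulo a maximal ideal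
over `p`.
-/

set_option autoImplicit false
open Cfsg
open scoped ComplexConjugate

namespace Cfsg.Agent.H669.PermFix

open Cfsg.Agent.Characters.Core Cfsg.Agent.H669.Basic

universe u v

variable {A : Type u} {N : Type v} [Group A] [Group N]

/-- The action on conjugacy classes induced by an action by automorphisms. -/
@[reducible]
def clsAct (φ : A →* MulAut N) : MulAction A (ConjClasses N) where
  smul a C := C.map (φ a).toMonoidHom
  one_smul C := by
    obtain ⟨g, rfl⟩ := ConjClasses.exists_rep C
    show (ConjClasses.mk g).map (φ 1).toMonoidHom = ConjClasses.mk g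
    rw [map_one]; rfl
  mul_smul a b C := by
    obtain ⟨g, rfl⟩ := ConjClasses.exists_rep C
    show (ConjClasses.mk g).map (φ (a * b)).toMonoidHom
      = ((ConjClasses.mk g).map (φ b).toMonoidHom).map (φ a).toMonoidHom
    rw [map_mul]; rfl

/-- The action on irreducible characters induced by an action by automorphisms. -/
@[reducible]
def irrAct (φ : A →* MulAut N) : MulAction A (IrrCharacter N) where
  smul a θ := ⟨(θ : N → ℂ) ∘ (φ a⁻¹).toMonoidHom,
    isIrr_comp (φ a⁻¹).toMonoidHom (φ a⁻¹).surjective θ.2⟩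
  one_smul θ := by
    apply Subtype.ext
    funext n
    show (θ : N → ℂ) (φ (1 : A)⁻¹ n) = (θ : N → ℂ) n
    rw [inv_one, map_one]
    rfl
  mul_smul a b θ := by
    apply Subtype.ext
    funext n
    show (θ : N → ℂ) (φ (a * b)⁻¹ n) = (θ : N → ℂ) (φ b⁻¹ (φ a⁻¹ n))
    rw [mul_inv_rev, map_mul]
    rfl

theorem clsAct_mk (φ : A →* MulAut N) (a : A) (g : N) :
    (clsAct φ).smul a (ConjClasses.mk g) = ConjClasses.mk (φ a g) := rfl

theorem irrAct_apply (φ : A →* MulAut N) (a : A) (θ : IrrCharacter N) (n : N) :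
    (((irrAct φ).smul a θ : IrrCharacter N) : N → ℂ) n = (θ : N → ℂ) (φ a⁻¹ n) := rfl

theorem isConj_out (g : N) : IsConj (Quotient.out (ConjClasses.mk g)) g := by
  rw [← ConjClasses.mk_eq_mk_iff_isConj]
  exact Quotient.out_eq _

theorem irr_out (θ : IrrCharacter N) (g : N) :
    (θ : N → ℂ) (Quotient.out (ConjClasses.mk g)) = (θ : N → ℂ) g :=
  classFunction_apply_eq (isIrr_isClassFunction θ.2) (isConj_out g)

/-- Compatibility of the two actions: values. -/
theorem val_smul (φ : A →* MulAut N) (a : A) (θ : IrrCharacter N) (C : ConjClasses N) :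
    (((irrAct φ).smul a θ : IrrCharacter N) : N → ℂ) (Quotient.out ((clsAct φ).smul a C))
      = (θ : N → ℂ) (Quotient.out C) := by
  obtain ⟨g, rfl⟩ := ConjClasses.exists_rep C
  rw [clsAct_mk, irr_out, irr_out, irrAct_apply, map_inv]
  simp

theorem index_centralizer_aut [Finite N] (e : MulAut N) (g : N) :
    (Subgroup.centralizer ({e g} : Set N)).index = (Subgroup.centralizer ({g} : Set N)).index := by
  have h : Subgroup.centralizer ({e g} : Set N)
      = (Subgroup.centralizer ({g} : Set N)).map e.toMonoidHom := by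
    ext x
    simp only [Subgroup.mem_centralizer_singleton_iff, Subgroup.mem_map]
    constructor
    · intro hx
      refine ⟨e.symm x, ?_, e.apply_symm_apply x⟩
      apply e.injective
      rw [map_mul, map_mul]
      simpa using hx
    · rintro ⟨y, hy, rfl⟩
      show e y * e g = e g * e y
      rw [← map_mul, ← map_mul, hy]
  rw [h]
  exact Subgroup.index_map_equiv _ e

theorem index_centralizer_conj [Finite N] {g h : N} (hgh : IsConj g h) :
    (Subgroup.centralizer ({g} : Set N)).index = (Subgroup.centralizer ({h} : Set N)).index := by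
  obtain ⟨c, rfl⟩ := isConj_iff.1 hgh
  exact (index_centralizer_aut (MulAut.conj c) g).symm

theorem index_smul [Finite N] (φ : A →* MulAut N) (a : A) (C : ConjClasses N) :
    (Subgroup.centralizer ({Quotient.out ((clsAct φ).smul a C)} : Set N)).index
      = (Subgroup.centralizer ({Quotient.out C} : Set N)).index := by
  obtain ⟨g, rfl⟩ := ConjClasses.exists_rep C
  rw [clsAct_mk, index_centralizer_conj (isConj_out _), index_centralizer_conj (isConj_out g)]
  exact index_centralizer_aut (φ a) g

section main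

variable [Finite N]

/-- The degree as an algebraic integer, etc. -/
noncomputable def cInt (θ : IrrCharacter N) (g : N) : AlgInt :=
  ⟨centralChar (θ : N → ℂ) g, by
    have := Fintype.ofFinite N
    exact Cfsg.Agent.Blocks.Elementary.isIntegral_centralChar θ.2 g⟩

noncomputable def bInt (θ : IrrCharacter N) (g : N) : AlgInt :=
  ⟨(θ : N → ℂ) 1 * conj ((θ : N → ℂ) g), by
    have := Fintype.ofFinite N
    refine IsIntegral.mul (Cfsg.Agent.Blocks.Elementary.isIntegral_char θ.2 1) ?_
    rw [← isCharacter_apply_inv (isIrr_isCharacter θ.2)]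
    exact Cfsg.Agent.Blocks.Elementary.isIntegral_char θ.2 g⁻¹⟩

theorem cInt_coe (θ : IrrCharacter N) (g : N) :
    ((cInt θ g : AlgInt) : ℂ) = ((Subgroup.centralizer ({g} : Set N)).index : ℂ)
      * (θ : N → ℂ) g / (θ : N → ℂ) 1 := rfl

theorem bInt_coe (θ : IrrCharacter N) (g : N) :
    ((bInt θ g : AlgInt) : ℂ) = (θ : N → ℂ) 1 * conj ((θ : N → ℂ) g) := rfl

theorem sum_classes [Fintype (ConjClasses N)] (θ θ' : IrrCharacter N) :
    (∑ C : ConjClasses N, cInt θ (Quotient.out C) * bInt θ' (Quotient.out C) : AlgInt)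
      = open Classical in if θ = θ' then ((Nat.card N : ℕ) : AlgInt) else 0 := by
  classical
  have := Fintype.ofFinite N
  apply Subtype.ext
  have h1 : ((∑ C : ConjClasses N, cInt θ (Quotient.out C) * bInt θ' (Quotient.out C) : AlgInt) : ℂ)
      = ∑ C : ConjClasses N, ((Subgroup.centralizer ({Quotient.out C} : Set N)).index : ℂ) *
        ((θ' : N → ℂ) 1 / (θ : N → ℂ) 1 *
          ((θ : N → ℂ) (Quotient.out C) * conj ((θ' : N → ℂ) (Quotient.out C)))) := by
    rw [AddSubmonoidClass.coe_finsetSum]
    refine Finset.sum_congr rfl fun C _ => ?_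
    rw [MulMemClass.coe_mul, cInt_coe, bInt_coe]
    have := isIrr_apply_one_ne_zero θ.2
    field_simp
  rw [h1]
  have hF : IsClassFunction N (fun g => (θ' : N → ℂ) 1 / (θ : N → ℂ) 1 *
          ((θ : N → ℂ) g * conj ((θ' : N → ℂ) g))) := by
    intro g h
    show _ * ((θ : N → ℂ) (h * g * h⁻¹) * conj ((θ' : N → ℂ) (h * g * h⁻¹))) = _
    rw [isIrr_isClassFunction θ.2 g h, isIrr_isClassFunction θ'.2 g h]
  rw [← Cfsg.Agent.Blocks.Elementary.sum_eq_sum_conjClasses hF, ← Finset.mul_sum]
  have h2 := classInner_irr θ.2 θ'.2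
  rw [classInner_def] at h2
  have hN : (Nat.card N : ℂ) ≠ 0 := card_ne_zero_complex
  have h3 : ∑ g : N, (θ : N → ℂ) g * conj ((θ' : N → ℂ) g)
      = (Nat.card N : ℂ) * (if (θ : N → ℂ) = θ' then 1 else 0) := by
    rw [← h2, mul_inv_cancel_left₀ hN]
  rw [h3]
  by_cases h : θ = θ'
  · subst h
    have := isIrr_apply_one_ne_zero θ.2
    simp [div_self this]
  · have h' : (θ : N → ℂ) ≠ θ' := fun hh => h (Subtype.ext hh)
    simp [h, h']

theorem sum_irr [Fintype (IrrCharacter N)] (C C' : ConjClasses N) :
    (∑ θ : IrrCharacter N, bInt θ (Quotient.out C) * cInt θ (Quotient.out C') : AlgInt)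
      = open Classical in if C = C' then ((Nat.card N : ℕ) : AlgInt) else 0 := by
  classical
  have := Fintype.ofFinite N
  apply Subtype.ext
  have h1 : ((∑ θ : IrrCharacter N, bInt θ (Quotient.out C) * cInt θ (Quotient.out C') :
      AlgInt) : ℂ) = ((Subgroup.centralizer ({Quotient.out C'} : Set N)).index : ℂ) *
        ∑ θ : IrrCharacter N, (θ : N → ℂ) (Quotient.out C') *
          conj ((θ : N → ℂ) (Quotient.out C)) := by
    rw [AddSubmonoidClass.coe_finsetSum, Finset.mul_sum]
    refine Finset.sum_congr rfl fun θ _ => ?_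
    rw [MulMemClass.coe_mul, cInt_coe, bInt_coe]
    have := isIrr_apply_one_ne_zero θ.2
    field_simp
  rw [h1, Cfsg.Agent.S0145.sum_irr_mul_conj]
  by_cases h : C = C'
  · subst h
    rw [if_pos (IsConj.refl _), if_pos rfl]
    have := Subgroup.card_mul_index (Subgroup.centralizer ({Quotient.out C} : Set N))
    have h2 : ((Subgroup.centralizer ({Quotient.out C} : Set N)).index : ℂ) *
      (Nat.card (Subgroup.centralizer ({Quotient.out C} : Set N)) : ℂ) = (Nat.card N : ℂ) := by
      rw [mul_comm]; exact_mod_cast this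
    rw [h2]
    rfl
  · rw [if_neg, if_neg h, mul_zero]
    · rfl
    · intro hc
      apply h
      have h3 := ConjClasses.mk_eq_mk_iff_isConj.2 hc
      have e1 : ConjClasses.mk (Quotient.out C) = C := Quotient.out_eq _
      have e2 : ConjClasses.mk (Quotient.out C') = C' := Quotient.out_eq _
      rw [e1, e2] at h3
      exact h3.symm

theorem cInt_smul (φ : A →* MulAut N) (a : A) (θ : IrrCharacter N) (C : ConjClasses N) :
    cInt ((irrAct φ).smul a θ) (Quotient.out ((clsAct φ).smul a C)) = cInt θ (Quotient.out C) := by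
  apply Subtype.ext
  rw [cInt_coe, cInt_coe, index_smul, val_smul, irrAct_apply, map_one]

theorem bInt_smul (φ : A →* MulAut N) (a : A) (θ : IrrCharacter N) (C : ConjClasses N) :
    bInt ((irrAct φ).smul a θ) (Quotient.out ((clsAct φ).smul a C)) = bInt θ (Quotient.out C) := by
  apply Subtype.ext
  rw [bInt_coe, bInt_coe, val_smul, irrAct_apply, map_one]

/-- Mutually inverse (up to a nonzero scalar) rectangular matrices are square. -/
theorem card_eq_of_mul {k I J : Type*} [Field k] [Fintype I] [Fintype J] [DecidableEq I]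
    [DecidableEq J] (X : I → J → k) (Y : J → I → k) {c : k} (hc : c ≠ 0)
    (h1 : ∀ i i', ∑ j, X i j * Y j i' = if i = i' then c else 0)
    (h2 : ∀ j j', ∑ i, Y j i * X i j' = if j = j' then c else 0) :
    Fintype.card I = Fintype.card J := by
  refine Matrix.square_of_invertible (Matrix.of X) (c⁻¹ • Matrix.of Y) ?_ ?_
  · ext i i'
    rw [Matrix.mul_smul, Matrix.smul_apply, Matrix.mul_apply, Matrix.one_apply]
    simp only [Matrix.of_apply]
    rw [h1]
    by_cases h : i = i'
    · rw [if_pos h, if_pos h, smul_eq_mul, inv_mul_cancel₀ hc]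
    · rw [if_neg h, if_neg h, smul_zero]
  · ext j j'
    rw [Matrix.smul_mul, Matrix.smul_apply, Matrix.mul_apply, Matrix.one_apply]
    simp only [Matrix.of_apply]
    rw [h2]
    by_cases h : j = j'
    · rw [if_pos h, if_pos h, smul_eq_mul, inv_mul_cancel₀ hc]
    · rw [if_neg h, if_neg h, smul_zero]

/-- **Glauberman's permutation lemma for `p`-groups.** A finite `p`-group acting on a group of
order prime to `p` fixes as many irreducible characters as conjugacy classes. -/
theorem card_fixed_eq {p : ℕ} [hp : Fact p.Prime] (hA : IsPGroup p A) (hN : ¬ p ∣ Nat.card N)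
    (φ : A →* MulAut N) :
    Nat.card {θ : IrrCharacter N // ∀ a : A, (irrAct φ).smul a θ = θ}
      = Nat.card {C : ConjClasses N // ∀ a : A, (clsAct φ).smul a C = C} := by
  classical
  have := Fintype.ofFinite N
  have := finite_irr (G := N)
  have := Fintype.ofFinite (IrrCharacter N)
  have : Fintype (ConjClasses N) := Fintype.ofFinite _
  obtain ⟨M, hM⟩ := Cfsg.Agent.Blocks.ExistsModular.exists_isPModular hp.out
  have hMm : M.IsMaximal := hM.2.1
  let k := AlgInt ⧸ M
  let _ : Field k := Ideal.Quotient.field M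
  let q : AlgInt →+* k := Ideal.Quotient.mk M
  have hqp : q (p : AlgInt) = 0 := Ideal.Quotient.eq_zero_iff_mem.2 hM.2.2
  have hqN : q ((Nat.card N : ℕ) : AlgInt) ≠ 0 := by
    intro h
    have h1 : (Nat.card N).Coprime p := ((Nat.Prime.coprime_iff_not_dvd hp.out).2 hN).symm
    have h2 := Nat.isCoprime_iff_coprime.2 h1
    obtain ⟨a, b, hab⟩ := h2
    have h3 := congrArg (fun z : ℤ => q (z : AlgInt)) hab
    simp only [Int.cast_add, Int.cast_mul, map_add, map_mul, Int.cast_natCast, Int.cast_one,
      map_one] at h3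
    rw [h, hqp, mul_zero, mul_zero, add_zero] at h3
    exact zero_ne_one h3
  -- the two fixed point sets
  let I := {θ : IrrCharacter N // ∀ a : A, (irrAct φ).smul a θ = θ}
  let J := {C : ConjClasses N // ∀ a : A, (clsAct φ).smul a C = C}
  let X : I → J → k := fun θ C => q (cInt θ.1 (Quotient.out C.1))
  let Y : J → I → k := fun C θ => q (bInt θ.1 (Quotient.out C.1))
  have hXY : ∀ θ θ' : I, ∑ C, X θ C * Y C θ' =
      if θ = θ' then (q ((Nat.card N : ℕ) : AlgInt)) else 0 := by
    intro θ θ'
    let _ := clsAct (N := N) φ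
    obtain ⟨c, hc⟩ := Cfsg.Agent.Blocks.OrbitSum.sum_eq_sum_fixed_add_smul (P := A)
      (Ω := ConjClasses N) hA
      (fun C => cInt θ.1 (Quotient.out C) * bInt θ'.1 (Quotient.out C)) (by
        intro a C
        have e1 := cInt_smul φ a θ.1 C
        rw [θ.2 a] at e1
        have e2 := bInt_smul φ a θ'.1 C
        rw [θ'.2 a] at e2
        show cInt θ.1 (Quotient.out ((clsAct φ).smul a C)) *
          bInt θ'.1 (Quotient.out ((clsAct φ).smul a C)) = _
        rw [e1, e2])
    rw [sum_classes] at hc
    have h1 := congrArg q hc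
    rw [map_add, map_nsmul, nsmul_eq_mul, ← map_natCast q p, hqp, zero_mul, add_zero,
      map_sum] at h1
    have h2 : ∑ C : J, X θ C * Y C θ' = ∑ C ∈ Finset.univ.filter
        (· ∈ MulAction.fixedPoints A (ConjClasses N)),
          q (cInt θ.1 (Quotient.out C) * bInt θ'.1 (Quotient.out C)) := by
      rw [Finset.sum_subtype (p := fun C => ∀ a : A, (clsAct φ).smul a C = C)
        (Finset.univ.filter (· ∈ MulAction.fixedPoints A (ConjClasses N)))
        (fun C => by
          rw [Finset.mem_filter, MulAction.mem_fixedPoints]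
          exact ⟨fun h => h.2, fun h => ⟨Finset.mem_univ _, h⟩⟩)]
      exact Finset.sum_congr rfl fun C _ => (map_mul q _ _).symm
    rw [h2, ← h1]
    by_cases h : θ = θ'
    · rw [if_pos h, if_pos (congrArg Subtype.val h)]
    · rw [if_neg h, if_neg (fun hh => h (Subtype.ext hh)), map_zero]
  have hYX : ∀ C C' : J, ∑ θ, Y C θ * X θ C' =
      if C = C' then (q ((Nat.card N : ℕ) : AlgInt)) else 0 := by
    intro C C'
    let _ := irrAct (N := N) φ
    obtain ⟨c, hc⟩ := Cfsg.Agent.Blocks.OrbitSum.sum_eq_sum_fixed_add_smul (P := A)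
      (Ω := IrrCharacter N) hA
      (fun θ => bInt θ (Quotient.out C.1) * cInt θ (Quotient.out C'.1)) (by
        intro a θ
        have e1 := bInt_smul φ a θ C.1
        rw [C.2 a] at e1
        have e2 := cInt_smul φ a θ C'.1
        rw [C'.2 a] at e2
        show bInt ((irrAct φ).smul a θ) (Quotient.out C.1) *
          cInt ((irrAct φ).smul a θ) (Quotient.out C'.1) = _
        rw [e1, e2])
    rw [sum_irr] at hc
    have h1 := congrArg q hc
    rw [map_add, map_nsmul, nsmul_eq_mul, ← map_natCast q p, hqp, zero_mul, add_zero,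
      map_sum] at h1
    have h2 : ∑ θ : I, Y C θ * X θ C' = ∑ θ ∈ Finset.univ.filter
        (· ∈ MulAction.fixedPoints A (IrrCharacter N)),
          q (bInt θ (Quotient.out C.1) * cInt θ (Quotient.out C'.1)) := by
      rw [Finset.sum_subtype (p := fun θ => ∀ a : A, (irrAct φ).smul a θ = θ)
        (Finset.univ.filter (· ∈ MulAction.fixedPoints A (IrrCharacter N)))
        (fun θ => by
          rw [Finset.mem_filter, MulAction.mem_fixedPoints]
          exact ⟨fun h => h.2, fun h => ⟨Finset.mem_univ _, h⟩⟩)]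
      exact Finset.sum_congr rfl fun θ _ => (map_mul q _ _).symm
    rw [h2, ← h1]
    by_cases h : C = C'
    · rw [if_pos h, if_pos (congrArg Subtype.val h)]
    · rw [if_neg h, if_neg (fun hh => h (Subtype.ext hh)), map_zero]
  rw [Nat.card_eq_fintype_card, Nat.card_eq_fintype_card]
  exact card_eq_of_mul X Y hqN hXY hYX

end main

end Cfsg.Agent.H669.PermFix
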