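import Mathlib
import Cfsg.Agent.H672.Over
import Cfsg.Agent.S0886
import Cfsg.Agent.CharactersDeep.CosetAverage
import Cfsg.Agent.CharactersDeep.NormalInd

/-!
# Characters over an invariant character of a normal subgroup (helper669)

* `card_over_le` : `θ ∈ Irr(N)` invariant under `G`: at most `k(G/N)` irreducible characters of `G` lie over `θ`.
* `sum_sq_over` : the multiplicities satisfy `∑ e_χ ^ 2 = |G : N|`.
-/

set_option autoImplicit false
set_option linter.style.haveILetI false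

namespace Cfsg.Agent.H669.OverCount

open Cfsg Cfsg.Agent.Characters.Core Cfsg.Agent.Characters.Clifford Cfsg.Agent.H672

universe u

variable {G : Type u} [Group G] [Finite G]

/-- On a coset of `N` all characters over `θ` are multiples of one function. -/
theorem exists_coset_function (N : Subgroup G) [hN : N.Normal] [Fintype N] {θ : N → ℂ}
    (hθ : IsIrrCharacter N θ)
    (hinv : ∀ (g : G) (n : N), θ ⟨g * n * g⁻¹, hN.conj_mem (n : G) n.2 g⟩ = θ n) (x : G) :
    ∃ Φ : G → ℂ, ∀ χ : G → ℂ, IsIrrCharacter G χ → classInner (fun n : N => χ n) θ ≠ 0 →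
      ∃ c : ℂ, ∀ y : G, x⁻¹ * y ∈ N → χ y = c * Φ y := by
  classical
  letI := Fintype.ofFinite G
  set T : Subgroup G := N ⊔ Subgroup.zpowers x with hT
  have hNT : N ≤ T := le_sup_left
  have hxT : x ∈ T := (le_sup_right : Subgroup.zpowers x ≤ T) (Subgroup.mem_zpowers x)
  letI := Fintype.ofFinite T
  set M : Subgroup T := N.subgroupOf T with hM
  letI := Fintype.ofFinite M
  haveI := finite_irr (G := T)
  letI := Fintype.ofFinite (IrrCharacter T)
  let e : M ≃* N := Subgroup.subgroupOfEquivOfLe hNT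
  have he : ∀ m : M, ((e m : N) : G) = ((m : T) : G) := fun m => rfl
  set θ' : M → ℂ := θ ∘ e with hθ'
  have hθ'i : IsIrrCharacter M θ' := isIrr_comp e.toMonoidHom e.surjective hθ
  have hinv' : ∀ (g : T) (n : M), θ' ⟨g * n * g⁻¹, (inferInstance : M.Normal).conj_mem (n : T) n.2 g⟩ = θ' n := by
    intro g n
    exact hinv g (e n)
  have hcyc : IsCyclic (T ⧸ M) := by
    have : ∀ q : T ⧸ M, q ∈ Subgroup.zpowers (QuotientGroup.mk (⟨x, hxT⟩ : T) : T ⧸ M) := by
      intro q
      obtain ⟨⟨t, ht⟩, rfl⟩ := QuotientGroup.mk_surjective q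
      obtain ⟨n, hn, z, hz, hnz⟩ := Subgroup.mem_sup_of_normal_left.1 ht
      obtain ⟨k, rfl⟩ := hz
      refine ⟨k, ?_⟩
      change (QuotientGroup.mk (⟨x, hxT⟩ : T) : T ⧸ M) ^ k = _
      rw [← QuotientGroup.mk_zpow, QuotientGroup.eq]
      rw [hM, Subgroup.mem_subgroupOf]
      change (x ^ k)⁻¹ * t ∈ N
      have h1 : (x ^ k)⁻¹ * t = (x ^ k)⁻¹ * n * ((x ^ k)⁻¹)⁻¹ := by
        rw [← hnz]; group
      rw [h1]
      exact hN.conj_mem n hn _
    exact ⟨_, this⟩
  obtain ⟨ψ, hψ, hψM⟩ := S0886.result M hcyc θ' hθ'i hinv'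
  have hψM' : (fun m : M => ψ m) = θ' := funext hψM
  refine ⟨fun y => if h : y ∈ T then ψ ⟨y, h⟩ else 0, ?_⟩
  intro χ hχ hχθ
  -- the restriction of `χ` to `N`
  have hres := CharDeep.CliffordCorr.restrict_eq_smul_of_invariant N hχ hθ
    (fun g => funext fun n => hinv g n) hχθ
  obtain ⟨c, hc, hc'⟩ := CharDeep.CliffordCorr.exists_nat_coeffs
    (isCharacter_comp T.subtype (isIrr_isCharacter hχ) : IsCharacter T (χ ∘ T.subtype))
  have hx : ∀ ξ : IrrCharacter T, c ξ ≠ 0 → ∃ a : ℂ, ∀ (y : G) (hy : x⁻¹ * y ∈ N) (hyT : y ∈ T),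
      (ξ : T → ℂ) ⟨y, hyT⟩ = a * ψ ⟨y, hyT⟩ := by
    intro ξ hξ
    -- `ξ` lies over `θ'`
    obtain ⟨φ, hφ, hoφ⟩ := exists_under (f := M.subtype) ξ.2
    have hover : Over (T.subtype.comp M.subtype) χ φ := by
      rw [over_comp_iff T.subtype M.subtype (isIrr_isCharacter hχ) hφ]
      refine ⟨ξ, ξ.2, ?_, hoφ⟩
      rw [over_iff, hc']
      exact_mod_cast hξ
    have hφθ : φ = θ' := by
      rw [over_iff] at hover
      have h1 : (χ ∘ (T.subtype.comp M.subtype) : M → ℂ) =
          classInner (fun n : N => χ n) θ • θ' := by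
        funext m
        exact congrFun hres (e m)
      rw [h1, classInner_smul_left] at hover
      have h2 := right_ne_zero_of_mul hover
      by_contra hne
      exact h2 (classInner_irr_ne hθ'i hφ (Ne.symm hne))
    rw [hφθ] at hoφ
    obtain ⟨η, hη, hηM, hξη⟩ := CharactersDeep.CosetAverage.exists_irr_mul M ψ hψ
      (by rw [hψM']; exact hθ'i) ξ ξ.2 (by rw [hψM']; exact (over_subtype_iff M _ _).1 hoφ)
    refine ⟨η ⟨x, hxT⟩, fun y hy hyT => ?_⟩
    have h3 : η ⟨y, hyT⟩ = η ⟨x, hxT⟩ := by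
      have hm : (⟨y * x⁻¹, T.mul_mem hyT (T.inv_mem hxT)⟩ : T) ∈ M := by
        rw [hM, Subgroup.mem_subgroupOf]
        change y * x⁻¹ ∈ N
        have : y * x⁻¹ = x * (x⁻¹ * y) * x⁻¹ := by group
        rw [this]
        exact hN.conj_mem _ hy x
      have h4 := hηM ⟨_, hm⟩ ⟨x, hxT⟩
      rw [← h4]
      congr 1
      apply Subtype.ext
      change y = y * x⁻¹ * x
      group
    rw [hξη]
    change ψ ⟨y, hyT⟩ * η ⟨y, hyT⟩ = _
    rw [h3, mul_comm]
  choose! a ha using hx
  refine ⟨∑ ξ : IrrCharacter T, (c ξ : ℂ) * a ξ, fun y hy => ?_⟩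
  have hyT : y ∈ T := by
    have h1 := T.mul_mem hxT (hNT hy)
    rwa [mul_inv_cancel_left] at h1
  change χ y = _ * (if h : y ∈ T then ψ ⟨y, h⟩ else 0)
  rw [dif_pos hyT, Finset.sum_mul]
  have h1 := congrFun hc ⟨y, hyT⟩
  simp only [Function.comp, Finset.sum_apply, Pi.smul_apply, smul_eq_mul] at h1
  change χ y = _ at h1
  rw [h1]
  refine Finset.sum_congr rfl fun ξ _ => ?_
  by_cases hξ : c ξ = 0
  · rw [hξ]; simp
  · rw [ha ξ hξ y hy hyT, mul_assoc]

/-- **At most `k(G/N)` irreducible characters of `G` lie over an invariant irreducible character of `N`.** -/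
theorem card_over_le (N : Subgroup G) [hN : N.Normal] [Fintype N] {θ : N → ℂ}
    (hθ : IsIrrCharacter N θ)
    (hinv : ∀ (g : G) (n : N), θ ⟨g * n * g⁻¹, hN.conj_mem (n : G) n.2 g⟩ = θ n) :
    Nat.card {χ : IrrCharacter G // classInner (fun n : N => (χ : G → ℂ) n) θ ≠ 0} ≤
      Nat.card (ConjClasses (G ⧸ N)) := by
  classical
  letI := Fintype.ofFinite G
  haveI := finite_irr (G := G)
  letI := Fintype.ofFinite (IrrCharacter G)
  set A := {χ : IrrCharacter G // classInner (fun n : N => (χ : G → ℂ) n) θ ≠ 0} with hA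
  letI : Fintype A := Fintype.ofFinite A
  letI : Fintype (ConjClasses (G ⧸ N)) := Fintype.ofFinite _
  -- representatives
  have hrep : ∀ C : ConjClasses (G ⧸ N), ∃ x : G, ConjClasses.mk (x : G ⧸ N) = C := by
    intro C
    obtain ⟨q, rfl⟩ := ConjClasses.mk_surjective C
    obtain ⟨x, rfl⟩ := QuotientGroup.mk_surjective q
    exact ⟨x, rfl⟩
  choose xc hxc using hrep
  -- good elements of the cosets
  have hgood : ∀ x : G, ∃ y : G, ∀ w : A → ℂ, (∑ χ : A, w χ * (χ.1 : G → ℂ) y = 0) →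
      ∀ z : G, x⁻¹ * z ∈ N → ∑ χ : A, w χ * (χ.1 : G → ℂ) z = 0 := by
    intro x
    obtain ⟨Φ, hΦ⟩ := exists_coset_function N hθ hinv x
    have hc : ∀ χ : A, ∃ c : ℂ, ∀ y : G, x⁻¹ * y ∈ N → (χ.1 : G → ℂ) y = c * Φ y :=
      fun χ => hΦ _ χ.1.2 χ.2
    choose c hc using hc
    have hsum : ∀ (w : A → ℂ) (z : G), x⁻¹ * z ∈ N →
        ∑ χ : A, w χ * (χ.1 : G → ℂ) z = (∑ χ : A, w χ * c χ) * Φ z := by
      intro w z hz
      rw [Finset.sum_mul]
      exact Finset.sum_congr rfl fun χ _ => by rw [hc χ z hz, mul_assoc]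
    by_cases h0 : ∃ y : G, x⁻¹ * y ∈ N ∧ Φ y ≠ 0
    · obtain ⟨y, hy, hy0⟩ := h0
      refine ⟨y, fun w hw z hz => ?_⟩
      rw [hsum w y hy] at hw
      rw [hsum w z hz, (mul_eq_zero.1 hw).resolve_right hy0, zero_mul]
    · push Not at h0
      refine ⟨x, fun w _ z hz => ?_⟩
      rw [hsum w z hz, h0 z hz, mul_zero]
  choose yc hyc using hgood
  let L : (A → ℂ) →ₗ[ℂ] (ConjClasses (G ⧸ N) → ℂ) :=
    { toFun := fun w C => ∑ χ : A, w χ * (χ.1 : G → ℂ) (yc (xc C))
      map_add' := fun w w' => by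
        funext C
        simp only [Pi.add_apply, add_mul, Finset.sum_add_distrib]
      map_smul' := fun a w => by
        funext C
        simp only [Pi.smul_apply, smul_eq_mul, RingHom.id_apply, Finset.mul_sum, mul_assoc] }
  have hL : Function.Injective L := by
    rw [← LinearMap.ker_eq_bot, LinearMap.ker_eq_bot']
    intro w hw
    have hzero : ∀ g : G, ∑ χ : A, w χ * (χ.1 : G → ℂ) g = 0 := by
      intro g
      set C := ConjClasses.mk (g : G ⧸ N) with hC
      have h1 : IsConj (xc C : G ⧸ N) (g : G ⧸ N) := ConjClasses.mk_eq_mk_iff_isConj.1 (hxc C)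
      obtain ⟨q, hq⟩ := isConj_iff.1 h1
      obtain ⟨h, rfl⟩ := QuotientGroup.mk_surjective q
      -- `h xc h⁻¹ ≡ g`
      have h2 : (xc C)⁻¹ * (h⁻¹ * g * h) ∈ N := by
        rw [← QuotientGroup.eq]
        rw [QuotientGroup.mk_mul, QuotientGroup.mk_mul, QuotientGroup.mk_inv, ← hq]
        group
      have h3 := hyc (xc C) w (congrFun hw C) _ h2
      refine Eq.trans (Finset.sum_congr rfl fun χ _ => ?_) h3
      congr 1
      have := isIrr_isClassFunction χ.1.2 g h⁻¹
      rw [inv_inv] at this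
      exact this.symm
    have hlin := (irr_linearIndependent (G := G)).comp (fun χ : A => χ.1) Subtype.val_injective
    rw [Fintype.linearIndependent_iff] at hlin
    have := hlin w (by
      funext g
      rw [Finset.sum_apply]
      simpa using hzero g)
    funext χ
    exact this χ
  have h1 := LinearMap.finrank_le_finrank_of_injective hL
  rw [Module.finrank_fintype_fun_eq_card, Module.finrank_fintype_fun_eq_card] at h1
  rw [Nat.card_eq_fintype_card, Nat.card_eq_fintype_card]
  exact h1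

/-- **The multiplicities of the characters over an invariant character**: `∑ e_χ ^ 2 = |G : N|`. -/
theorem sum_sq_over (N : Subgroup G) [hN : N.Normal] [Fintype N] {θ : N → ℂ}
    (hθ : IsIrrCharacter N θ)
    (hinv : ∀ (g : G) (n : N), θ ⟨g * n * g⁻¹, hN.conj_mem (n : G) n.2 g⟩ = θ n)
    [Fintype (IrrCharacter G)] :
    ∃ e : IrrCharacter G → ℕ, (∀ χ : IrrCharacter G, classInner (fun n : N => (χ : G → ℂ) n) θ = e χ) ∧
      (∀ χ : IrrCharacter G, e χ ≠ 0 → charDegree (χ : G → ℂ) = e χ * charDegree θ) ∧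
      ∑ χ : IrrCharacter G, e χ ^ 2 = N.index := by
  classical
  letI := Fintype.ofFinite G
  have he : ∀ χ : IrrCharacter G, ∃ e : ℕ, classInner (fun n : N => (χ : G → ℂ) n) θ = e := fun χ =>
    classInner_isNat (isCharacter_comp N.subtype (isIrr_isCharacter χ.2)) (isIrr_isCharacter hθ)
  choose e he using he
  refine ⟨e, he, fun χ hχ => ?_, ?_⟩
  · have hres := CharDeep.CliffordCorr.restrict_eq_smul_of_invariant N χ.2 hθ
      (fun g => funext fun n => hinv g n) (by rw [he]; exact_mod_cast hχ)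
    have h1 := congrFun hres 1
    rw [he] at h1
    simp only [Pi.smul_apply, smul_eq_mul, OneMemClass.coe_one] at h1
    rw [← coe_charDegree χ.2, ← coe_charDegree hθ] at h1
    exact_mod_cast h1
  · have h1 : ∀ χ : IrrCharacter G, classInner (indFun N θ) (χ : G → ℂ) = e χ := by
      intro χ
      rw [CharactersDeep.NormalInd.classInner_indFun N θ χ (isIrr_isClassFunction χ.2),
        ← classInner_conj_symm, he, Complex.conj_natCast]
    have h2 : indFun N θ = ∑ χ : IrrCharacter G, (e χ : ℂ) • (χ : G → ℂ) := by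
      rw [classFunction_eq_sum (CharactersDeep.NormalInd.indFun_isClassFunction N θ)]
      exact Finset.sum_congr rfl fun χ _ => by rw [h1]
    have h3 : classInner (indFun N θ) (indFun N θ) = N.index := by
      rw [CharactersDeep.NormalInd.classInner_indFun_of_invariant N θ θ hinv,
        classInner_irr_self hθ, mul_one]
    have h4 : (∑ χ : IrrCharacter G, (e χ : ℂ) ^ 2) = (N.index : ℂ) := by
      rw [← h3]
      conv_rhs => rw [h2]
      rw [classInner_sum_left]
      refine Finset.sum_congr rfl fun χ _ => ?_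
      rw [classInner_smul_left, ← classInner_conj_symm, ← h2, h1, Complex.conj_natCast, pow_two]
    exact_mod_cast h4

end Cfsg.Agent.H669.OverCount
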