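import Cfsg.Agent.H630.NH

/-!
# The alternating row of `H630.NH.Row` (helper669, for S4597, S4599, S4600)
-/

set_option autoImplicit false

namespace Cfsg.Agent.H669.NHAlt

open Cfsg.Agent.H630.NH

theorem dvd_descFactorial {n p q : ℕ} (hp : p.Prime) (hpq : p ≤ q) : p ∣ n.descFactorial q := by
  have h1 : Nat.factorial q ∣ n.descFactorial q := Nat.factorial_dvd_descFactorial n q
  exact (hp.dvd_factorial.2 hpq).trans h1

theorem row_alt (n : ℕ) (hn : 5 ≤ n) : Row ↥(alternatingGroup (Fin n)) := by
  refine Row.of_pairs fun p q hp hq hp2 hq2 hpq _ hqd => Or.inr ?_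
  have : Fact q.Prime := ⟨hq⟩
  have hqn : q ≤ n := by
    have h1 : q ∣ Nat.factorial n := by
      have h2 := Subgroup.card_subgroup_dvd_card (alternatingGroup (Fin n))
      rw [Nat.card_perm, Nat.card_fin] at h2
      exact hqd.trans h2
    exact (hq.dvd_factorial).1 h1
  -- a `q`-cycle
  obtain ⟨x, hx⟩ : ∃ x : Equiv.Perm (Fin n), x.cycleType = {q} := by
    rw [Equiv.Perm.exists_with_cycleType_iff]
    refine ⟨by simpa using hqn, ?_⟩
    intro a ha
    rw [Multiset.mem_singleton] at ha
    rw [ha]
    exact hq.two_le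
  have hxo : orderOf x = q := by
    rw [← Equiv.Perm.lcm_cycleType, hx, Multiset.lcm_singleton]
    simp
  have hxA : x ∈ alternatingGroup (Fin n) := by
    rw [Equiv.Perm.mem_alternatingGroup, Equiv.Perm.sign_of_cycleType, hx]
    have hodd : Odd q := hq.odd_of_ne_two hq2
    simp only [Multiset.sum_singleton, Multiset.card_singleton]
    exact Even.neg_one_pow hodd.add_one
  refine ⟨⟨x, hxA⟩, ⟨1, by rw [pow_one, Subgroup.orderOf_mk, hxo]⟩, ?_⟩
  set C : Subgroup (alternatingGroup (Fin n)) := Subgroup.centralizer ({⟨x, hxA⟩} : Set _) with hC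
  have h1 : Nat.card (Subgroup.centralizer ({x} : Set (Equiv.Perm (Fin n)))) = (n - q).factorial * q := by
    rw [Equiv.Perm.nat_card_centralizer, hx]
    simp
  have h2 : Nat.card C ∣ (n - q).factorial * q := by
    rw [← h1]
    have h3 : C.map (alternatingGroup (Fin n)).subtype ≤ Subgroup.centralizer ({x} : Set (Equiv.Perm (Fin n))) := by
      rintro _ ⟨y, hy, rfl⟩
      rw [Subgroup.mem_centralizer_singleton_iff]
      have hy' : y ∈ C := hy
      rw [hC, Subgroup.mem_centralizer_singleton_iff] at hy'
      exact congrArg Subtype.val hy'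
    have h4 := Subgroup.card_dvd_of_le h3
    rwa [Subgroup.card_map_of_injective (alternatingGroup (Fin n)).subtype_injective] at h4
  obtain ⟨k, hk⟩ := h2
  have h3 : 2 * (Nat.card C * C.index) = (n - q).factorial * n.descFactorial q := by
    rw [C.card_mul_index, Nat.factorial_mul_descFactorial hqn]
    have : Nontrivial (Fin n) := Fin.nontrivial_iff_two_le.2 (by omega)
    have h4 := two_mul_nat_card_alternatingGroup (α := Fin n)
    rw [Nat.card_perm, Nat.card_fin] at h4
    exact h4
  have h4 : 2 * q * C.index = k * n.descFactorial q := by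
    have h5 : 0 < Nat.card C := Nat.card_pos
    apply Nat.eq_of_mul_eq_mul_left h5
    calc Nat.card C * (2 * q * C.index) = q * (2 * (Nat.card C * C.index)) := by ring
      _ = q * ((n - q).factorial * n.descFactorial q) := by rw [h3]
      _ = ((n - q).factorial * q) * n.descFactorial q := by ring
      _ = _ := by rw [hk]; ring
  have h5 : p ∣ 2 * q * C.index := by
    rw [h4]
    exact (dvd_descFactorial hp hpq.le).mul_left k
  rcases hp.dvd_mul.1 h5 with h6 | h6
  · exfalso
    rcases hp.dvd_mul.1 h6 with h7 | h7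
    · exact hp2 ((Nat.prime_dvd_prime_iff_eq hp Nat.prime_two).1 h7)
    · exact hpq.ne ((Nat.prime_dvd_prime_iff_eq hp hq).1 h7)
  · exact h6

end Cfsg.Agent.H669.NHAlt
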