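import Cfsg.Agent.H630.Cross
import Cfsg.Agent.H716.UniCent

/-!
# `H630.NH.Row` in defining characteristic (helper669, for S4597, S4599, S4600)

`Row.of_cross_lie` : a simple group of Lie type of characteristic `r` satisfies `Row` if it satisfies `CrossRow r`.
-/

set_option autoImplicit false

namespace Cfsg.Agent.H669.NHLie

open Cfsg Cfsg.Agent.H630.NH

universe u

/-- The row, from the row in cross characteristic, if for every prime `q ≠ r` dividing the order some `r`-element has
class size divisible by `q`. -/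
theorem row_of_cross {r : ℕ} {X : Type u} [Group X] (h : CrossRow r X)
    (hu : ∀ q : ℕ, q.Prime → q ≠ r → q ∣ Nat.card X →
      ∃ x : X, (∃ k : ℕ, orderOf x = r ^ k) ∧ q ∣ (Subgroup.centralizer ({x} : Set X)).index) : Row X := by
  intro π hπ hnt hc
  by_cases hrπ : r ∈ π
  · exfalso
    obtain ⟨q, hq, hqr⟩ := hnt.exists_ne r
    obtain ⟨x, hx, hd⟩ := hu q (hπ q hq).1 hqr (hπ q hq).2.2
    exact hc r hrπ q hq hqr.symm x hx hd
  · exact h π (fun p hp => ⟨(hπ p hp).1, (hπ p hp).2.1, fun he => hrπ (he ▸ hp), (hπ p hp).2.2⟩) hnt hc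

/-- Every prime `q ≠ r` divides the class size of some `r`-element of a simple group of Lie type in characteristic `r`. -/
theorem exists_elem_of_lie {r : ℕ} (hr : r.Prime) {X : Type u} [Group X] [Finite X] [IsSimpleGroup X]
    (hX : IsLieTypeChar r X) (q : ℕ) (hq : q.Prime) (hqr : q ≠ r) (hd : q ∣ Nat.card X) :
    ∃ x : X, (∃ k : ℕ, orderOf x = r ^ k) ∧ q ∣ (Subgroup.centralizer ({x} : Set X)).index :=
  H716.UniCent.exists_uni_of_lie hq hr hX hqr hd

/-- The row of a simple group of Lie type from the row in cross characteristic. -/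
theorem row_of_cross_lie {r : ℕ} (hr : r.Prime) {X : Type u} [Group X] [Finite X] [IsSimpleGroup X]
    (hX : IsLieTypeChar r X) (h : CrossRow r X) : Row X :=
  row_of_cross h (exists_elem_of_lie hr hX)

end Cfsg.Agent.H669.NHLie
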