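import Cfsg.Agent.H713.Reduce
import Cfsg.Agent.CharDeep.LinearChar

/-!
# Tensor induction: extension of product characters from a minimal normal subgroup (helper669)

* `exists_tensor` : the character of `G` obtained from a character `ψ` of `A` by tensor induction along a cocycle
  `a : G → ι → A` over a permutation action `G → Sym(ι)`;
* `exists_extension` : `N` a non-abelian minimal normal subgroup of `G`, `T i` its factors, `α ∈ Irr(T 0)` which extends
  to `Aut(T 0)`: the product of copies of `α` extends to an irreducible character of `G`.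
-/

set_option autoImplicit false

namespace Cfsg.Agent.H669.TensExt

open Cfsg Cfsg.Agent.Characters.Core Cfsg.Agent.H713

universe u v w

section tensor

variable {G : Type u} {A : Type v} {ι : Type w} [Group G] [Group A] [Fintype ι] [DecidableEq ι]

/-- The matrices of the tensor induced representation. -/
def tmat {d : ℕ} (R : A →* Matrix (Fin d) (Fin d) ℂ) (π : G →* Equiv.Perm ι) (a : G → ι → A) (g : G) :
    Matrix (ι → Fin d) (ι → Fin d) ℂ :=
  Matrix.of fun x y => ∏ i, R (a g i) (x (π g i)) (y i)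

theorem tmat_mul {d : ℕ} (R : A →* Matrix (Fin d) (Fin d) ℂ) (π : G →* Equiv.Perm ι) (a : G → ι → A)
    (ha : ∀ g h i, a (g * h) i = a g (π h i) * a h i) (g h : G) :
    tmat R π a (g * h) = tmat R π a g * tmat R π a h := by
  ext x z
  rw [Matrix.mul_apply]
  simp only [tmat, Matrix.of_apply]
  have e1 : ∀ i, R (a (g * h) i) (x (π (g * h) i)) (z i) =
      ∑ k, R (a g (π h i)) (x (π g (π h i))) k * R (a h i) k (z i) := by
    intro i
    rw [ha, map_mul, Matrix.mul_apply, map_mul]
    rfl
  rw [Finset.prod_congr rfl fun i _ => e1 i, Finset.prod_univ_sum, Fintype.piFinset_univ]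
  rw [← Equiv.sum_comp (Equiv.arrowCongr (π h).symm (Equiv.refl (Fin d)))]
  refine Finset.sum_congr rfl fun w _ => ?_
  rw [← Equiv.prod_comp (π h) (fun j => R (a g j) (x (π g j)) _), ← Finset.prod_mul_distrib]
  refine Finset.prod_congr rfl fun i _ => ?_
  simp [Equiv.arrowCongr]

omit [DecidableEq ι] in
theorem tmat_one {d : ℕ} (R : A →* Matrix (Fin d) (Fin d) ℂ) (π : G →* Equiv.Perm ι) (a : G → ι → A)
    (ha : ∀ g h i, a (g * h) i = a g (π h i) * a h i) : tmat R π a 1 = 1 := by
  have h1 : ∀ i, a 1 i = 1 := by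
    intro i
    have := ha 1 1 i
    rw [mul_one, map_one] at this
    exact (mul_eq_right.1 this.symm)
  ext x y
  simp only [tmat, Matrix.of_apply, h1, map_one, Equiv.Perm.coe_one, id_eq]
  by_cases hxy : x = y
  · subst hxy
    simp
  · obtain ⟨i, hi⟩ := Function.ne_iff.1 hxy
    rw [Matrix.one_apply_ne hxy]
    exact Finset.prod_eq_zero (Finset.mem_univ i) (Matrix.one_apply_ne hi)

/-- **Tensor induction.** -/
theorem exists_tensor (π : G →* Equiv.Perm ι) (a : G → ι → A)
    (ha : ∀ g h i, a (g * h) i = a g (π h i) * a h i) {ψ : A → ℂ} (hψ : IsCharacter A ψ) :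
    ∃ (V : Type w) (_ : AddCommGroup V) (_ : Module ℂ V) (_ : FiniteDimensional ℂ V) (ρ : Representation ℂ G V),
      ∀ g, π g = 1 → ρ.character g = ∏ i, ψ (a g i) := by
  obtain ⟨d, σ, rfl⟩ := hψ
  let R : A →* Matrix (Fin d) (Fin d) ℂ := (LinearMap.toMatrixAlgEquiv' (R := ℂ) (n := Fin d)).toMonoidHom.comp σ
  let M : G →* Matrix (ι → Fin d) (ι → Fin d) ℂ :=
    { toFun := tmat R π a
      map_one' := tmat_one R π a ha
      map_mul' := tmat_mul R π a ha }
  let ρ : Representation ℂ G ((ι → Fin d) → ℂ) :=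
    (Matrix.toLinAlgEquiv' (R := ℂ) (n := (ι → Fin d))).toMonoidHom.comp M
  refine ⟨_, _, _, inferInstance, ρ, fun g hg => ?_⟩
  have h1 : ρ.character g = Matrix.trace (tmat R π a g) := by
    change LinearMap.trace ℂ _ (Matrix.toLin' (tmat R π a g)) = _
    rw [Matrix.trace_toLin'_eq]
  have h2 : ∀ i, σ.character (a g i) = ∑ k, R (a g i) k k := by
    intro i
    have h3 : Matrix.toLin' (R (a g i)) = σ (a g i) := Matrix.toLin'_toMatrix' _
    have h4 : LinearMap.trace ℂ _ (Matrix.toLin' (R (a g i))) = Matrix.trace (R (a g i)) := Matrix.trace_toLin'_eq _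
    rw [h3] at h4
    exact h4
  rw [h1, Finset.prod_congr rfl fun i _ => h2 i, Finset.prod_univ_sum, Fintype.piFinset_univ, Matrix.trace]
  refine Finset.sum_congr rfl fun x _ => ?_
  simp [tmat, hg]

end tensor

section ext

variable {G : Type u} [Group G] {m : ℕ} {N : Subgroup G} {T : Fin m → Subgroup G}
  (e : N ≃* (∀ i, T i))

/-- **Extension of product characters**, with coordinates as in `OnanScott.exists_coordinates`. -/
theorem exists_extension_coord [Finite G] (hTinj : Function.Injective T) (hTN : ∀ i, T i ≤ N)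
    (hTn : ∀ i, N ≤ Subgroup.normalizer (T i : Set G))
    (hconj : ∀ (g : G) i, ∃ j, T j = (T i).map (MulAut.conj g).toMonoidHom)
    (he : ∀ i (t : T i), ((e.symm (Pi.mulSingle i t) : N) : G) = t)
    (hc : ∀ (n : N) i, e n i = 1 ↔ ∀ t ∈ T i, Commute (n : G) t)
    (o : Fin m) (g : Fin m → G) (hg : ∀ i, T i = (T o).map (MulAut.conj (g i)).toMonoidHom)
    {α : T o → ℂ} (hα : IsIrrCharacter (T o) α) {ψ : MulAut (T o) → ℂ} (hψ : IsCharacter (MulAut (T o)) ψ)
    (hext : ∀ s, ψ (MulAut.conj s) = α s) :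
    ∃ χ : G → ℂ, IsIrrCharacter G χ ∧ ∀ n : N, χ n = ∏ i, α ((conjIso (g i) (hg i)).symm (e n i)) := by
  classical
  choose f hf using hconj
  -- the permutation action
  have hf1 : ∀ i, f 1 i = i := by
    intro i
    apply hTinj
    rw [hf, Cfsg.Agent.Lib.MinNormal.map_conj_one]
  have hf2 : ∀ x y i, f (x * y) i = f x (f y i) := by
    intro x y i
    apply hTinj
    rw [hf, hf x, hf y, Cfsg.Agent.Lib.MinNormal.map_conj_map_conj]
  let act : MulAction G (Fin m) :=
    { smul := f
      one_smul := hf1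
      mul_smul := hf2 }
  let π : G →* Equiv.Perm (Fin m) := MulAction.toPermHom G (Fin m)
  have hπ : ∀ x i, π x i = f x i := fun _ _ => rfl
  -- the cocycle
  let a : G → Fin m → MulAut (T o) := fun x i =>
    (conjIso (g i) (hg i)).trans ((conjIso x (hf x i)).trans (conjIso (g (f x i)) (hg (f x i))).symm)
  have hval : ∀ x i (s : T o), ((a x i s : T o) : G) =
      (g (f x i))⁻¹ * (x * (g i * s * (g i)⁻¹) * x⁻¹) * g (f x i) := by
    intro x i s
    have h1 : conjIso (g (f x i)) (hg (f x i)) (a x i s) = conjIso x (hf x i) (conjIso (g i) (hg i) s) := by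
      exact (conjIso (g (f x i)) (hg (f x i))).apply_symm_apply _
    have h2 := congrArg (Subtype.val : T (f x i) → G) h1
    rw [conjIso_apply, conjIso_apply, conjIso_apply] at h2
    rw [← h2]
    group
  have ha : ∀ x y i, a (x * y) i = a x (π y i) * a y i := by
    intro x y i
    apply MulEquiv.ext
    intro s
    apply Subtype.ext
    rw [MulAut.mul_apply, hval, hval, hval, hπ, hf2]
    group
  obtain ⟨V, _, _, _, ρ, hρ⟩ := exists_tensor π a ha hψ
  -- values on `N`
  have hfN : ∀ (n : N) i, f n i = i := by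
    intro n i
    apply hTinj
    rw [hf]
    exact Subgroup.mem_normalizer_iff_map_conj_eq.1 (hTn i n.2)
  have hπN : ∀ n : N, π n = 1 := by
    intro n
    ext i
    rw [hπ, hfN]
    rfl
  have haN : ∀ (n : N) i, a n i = MulAut.conj ((conjIso (g i) (hg i)).symm (e n i)) := by
    intro n i
    apply MulEquiv.ext
    intro s
    apply Subtype.ext
    rw [hval, hfN]
    have h1 : ∀ u : T i, (n : G) * u * (n : G)⁻¹ = (e n i : G) * u * (e n i : G)⁻¹ := by
      intro u
      have h2 := (hc ((⟨e n i, hTN i (e n i).2⟩ : N)⁻¹ * n) i).1 (by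
        have h1 : e (⟨e n i, hTN i (e n i).2⟩ : N) = Pi.mulSingle i (e n i) := by
          apply e.symm.injective
          rw [MulEquiv.symm_apply_apply]
          exact Subtype.ext (he i (e n i)).symm
        rw [map_mul, map_inv, h1, Pi.mul_apply, Pi.inv_apply, Pi.mulSingle_eq_same]
        simp) u u.2
      have h3 : ((e n i : G))⁻¹ * (n : G) * u = u * (((e n i : G))⁻¹ * (n : G)) := h2.eq
      have h4 : (n : G) * u * (n : G)⁻¹ = (e n i : G) * (((e n i : G))⁻¹ * (n : G) * u) * (n : G)⁻¹ := by group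
      rw [h4, h3]
      group
    have h5 := h1 (conjIso (g i) (hg i) s)
    rw [conjIso_apply] at h5
    have h6 : g i * (((conjIso (g i) (hg i)).symm (e n i) : T o) : G) * (g i)⁻¹ = (e n i : G) := by
      have := congrArg (Subtype.val : T i → G) ((conjIso (g i) (hg i)).apply_symm_apply (e n i))
      rwa [conjIso_apply] at this
    rw [h5, MulAut.conj_apply, Subgroup.coe_mul, Subgroup.coe_mul, Subgroup.coe_inv, ← h6]
    group
  have hres : ∀ n : N, ρ.character n = ∏ i, α ((conjIso (g i) (hg i)).symm (e n i)) := by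
    intro n
    rw [hρ n (hπN n)]
    exact Finset.prod_congr rfl fun i _ => by rw [haN, hext]
  refine ⟨ρ.character, isIrrCharacter_of_rep ρ ?_, hres⟩
  apply Cfsg.Agent.CharDeep.LinearChar.isIrreducible_of_comp N.subtype
  apply isIrreducible_of_isIrrCharacter
  have h1 := isIrr_pi (ι := Fin m) hα
  let E : N ≃* (Fin m → T o) := e.trans (MulEquiv.piCongrRight fun i => (conjIso (g i) (hg i)).symm)
  have h2 := isIrr_comp (E : N →* (Fin m → T o)) E.surjective h1
  convert h2 using 1
  funext n
  exact hres n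

/-- **Product characters invariant under a `p`-subgroup.** -/
theorem exists_invariant_coord [N.Normal] [Finite G] (hTinj : Function.Injective T) (hTN : ∀ i, T i ≤ N)
    (hconj : ∀ (g : G) i, ∃ j, T j = (T i).map (MulAut.conj g).toMonoidHom)
    (he : ∀ i (t : T i), ((e.symm (Pi.mulSingle i t) : N) : G) = t)
    (hc : ∀ (n : N) i, e n i = 1 ↔ ∀ t ∈ T i, Commute (n : G) t)
    (o : Fin m) (g : Fin m → G) (hg : ∀ i, T i = (T o).map (MulAut.conj (g i)).toMonoidHom)
    {p : ℕ} [hp : Fact p.Prime] (P : Subgroup G) (hP : IsPGroup p P)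
    {β : T o → ℂ} (hβ : IsIrrCharacter (T o) β)
    (hinv : ∀ φ : MulAut (T o), (∃ k : ℕ, orderOf φ = p ^ k) → ∀ s, β (φ s) = β s) :
    ∃ Θ : N → ℂ, IsIrrCharacter N Θ ∧ (∀ x ∈ P, ∀ n, Θ (MulAut.conjNormal x n) = Θ n) ∧
      ∃ E : N ≃* (Fin m → T o), ∀ n, Θ n = ∏ i, β (E n i) := by
  classical
  choose f hf using hconj
  have hf1 : ∀ i, f 1 i = i := by
    intro i
    apply hTinj
    rw [hf, Cfsg.Agent.Lib.MinNormal.map_conj_one]
  have hf2 : ∀ x y i, f (x * y) i = f x (f y i) := by
    intro x y i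
    apply hTinj
    rw [hf, hf x, hf y, Cfsg.Agent.Lib.MinNormal.map_conj_map_conj]
  let act : MulAction G (Fin m) :=
    { smul := f
      one_smul := hf1
      mul_smul := hf2 }
  have hsm : ∀ (x : G) i, x • i = f x i := fun _ _ => rfl
  -- representatives of the `P`-orbits
  let r : Fin m → Fin m := fun i => (Quotient.mk'' i : MulAction.orbitRel.Quotient P (Fin m)).out
  have hr : ∀ i, ∃ k : P, (k : G) • (r i) = i := by
    intro i
    have h1 : (MulAction.orbitRel P (Fin m)).r (r i) i := Quotient.mk_out (s := MulAction.orbitRel P (Fin m)) i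
    have h2 : r i ∈ MulAction.orbit P i := h1
    obtain ⟨k, hk⟩ := h2
    refine ⟨k⁻¹, ?_⟩
    rw [← hk]
    exact inv_smul_smul k i
  have hrr : ∀ (x : G) (hx : x ∈ P) i, r (f x i) = r i := by
    intro x hx i
    have h1 : (Quotient.mk'' (f x i) : MulAction.orbitRel.Quotient P (Fin m)) = Quotient.mk'' i := by
      apply Quotient.sound'
      exact ⟨⟨x, hx⟩, rfl⟩
    change (Quotient.mk'' (f x i) : MulAction.orbitRel.Quotient P (Fin m)).out = _
    rw [h1]
  choose k hk using hr
  -- the new identifications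
  let g' : Fin m → G := fun i => (k i : G) * g (r i)
  have hg' : ∀ i, T i = (T o).map (MulAut.conj (g' i)).toMonoidHom := by
    intro i
    have h1 : f (k i) (r i) = i := hk i
    calc T i = T (f (k i) (r i)) := by rw [h1]
      _ = (T (r i)).map (MulAut.conj (k i : G)).toMonoidHom := hf _ _
      _ = ((T o).map (MulAut.conj (g (r i))).toMonoidHom).map (MulAut.conj (k i : G)).toMonoidHom := by rw [← hg]
      _ = _ := Cfsg.Agent.Lib.MinNormal.map_conj_map_conj _ _ _
  let E : N ≃* (Fin m → T o) := e.trans (MulEquiv.piCongrRight fun i => (conjIso (g' i) (hg' i)).symm)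
  have hE : ∀ n i, E n i = (conjIso (g' i) (hg' i)).symm (e n i) := fun _ _ => rfl
  have hEval : ∀ n i, g' i * (E n i : G) * (g' i)⁻¹ = (e n i : G) := by
    intro n i
    have := congrArg (Subtype.val : T i → G) ((conjIso (g' i) (hg' i)).apply_symm_apply (e n i))
    rw [conjIso_apply] at this
    rw [hE]
    exact this
  refine ⟨fun n => ∏ i, β (E n i), ?_, ?_, E, fun _ => rfl⟩
  · have h1 := isIrr_pi (ι := Fin m) hβ
    exact isIrr_comp (E : N →* (Fin m → T o)) E.surjective h1
  · intro x hx n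
    let π : Equiv.Perm (Fin m) := MulAction.toPerm x
    have hπ : ∀ i, π i = f x i := fun _ => rfl
    change ∏ i, β (E (MulAut.conjNormal x n) i) = ∏ i, β (E n i)
    rw [← Equiv.prod_comp π]
    refine Finset.prod_congr rfl fun i _ => ?_
    rw [hπ]
    -- the automorphism
    set z : G := (g' (f x i))⁻¹ * x * g' i with hz
    have hzP : ∃ y ∈ P, z = (g (r i))⁻¹ * y * g (r i) := by
      refine ⟨(k (f x i) : G)⁻¹ * x * k i, mul_mem (mul_mem (inv_mem (k (f x i)).2) hx) (k i).2, ?_⟩
      rw [hz]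
      change ((k (f x i) : G) * g (r (f x i)))⁻¹ * x * ((k i : G) * g (r i)) = _
      rw [hrr x hx]
      group
    have hzT : T o = (T o).map (MulAut.conj z).toMonoidHom := by
      have h1 := hf x i
      rw [hg' (f x i), hg' i, Cfsg.Agent.Lib.MinNormal.map_conj_map_conj] at h1
      have h2 := congrArg (fun S : Subgroup G => S.map (MulAut.conj (g' (f x i))⁻¹).toMonoidHom) h1
      beta_reduce at h2
      rw [Cfsg.Agent.Lib.MinNormal.map_conj_map_conj, Cfsg.Agent.Lib.MinNormal.map_conj_map_conj, inv_mul_cancel,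
        Cfsg.Agent.Lib.MinNormal.map_conj_one] at h2
      rw [hz, mul_assoc]
      exact h2
    have hzo : ∃ a : ℕ, orderOf z = p ^ a := by
      obtain ⟨y, hy, hyz⟩ := hzP
      obtain ⟨a, ha⟩ := hP ⟨y, hy⟩
      have h1 : z ^ p ^ a = 1 := by
        have h2 : y ^ p ^ a = 1 := congrArg Subtype.val ha
        have h3 : z = MulAut.conj (g (r i))⁻¹ y := by
          rw [hyz, MulAut.conj_apply, inv_inv]
        rw [h3, ← map_pow, h2, map_one]
      obtain ⟨b, -, hb⟩ := (Nat.dvd_prime_pow hp.out).1 (orderOf_dvd_of_pow_eq_one h1)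
      exact ⟨b, hb⟩
    have hφ : ∃ a : ℕ, orderOf (conjIso z hzT : MulAut (T o)) = p ^ a := by
      obtain ⟨a, ha⟩ := hzo
      have hpow : ∀ (b : ℕ) (s : T o), (((conjIso z hzT : MulAut (T o)) ^ b) s : G) = z ^ b * s * (z ^ b)⁻¹ := by
        intro b
        induction b with
        | zero => intro s; simp
        | succ b ih =>
          intro s
          rw [pow_succ, MulAut.mul_apply, ih]
          have : ((conjIso z hzT : MulAut (T o)) s : G) = z * s * z⁻¹ := conjIso_apply z hzT s
          rw [this, pow_succ]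
          group
      have h1 : (conjIso z hzT : MulAut (T o)) ^ p ^ a = 1 := by
        apply MulEquiv.ext
        intro s
        apply Subtype.ext
        rw [hpow, ← ha, pow_orderOf_eq_one]
        simp
      obtain ⟨b, -, hb⟩ := (Nat.dvd_prime_pow hp.out).1 (orderOf_dvd_of_pow_eq_one h1)
      exact ⟨b, hb⟩
    have hval : E (MulAut.conjNormal x n) (f x i) = (conjIso z hzT : MulAut (T o)) (E n i) := by
      apply Subtype.ext
      have h1 := hEval (MulAut.conjNormal x n) (f x i)
      rw [coord_conj e hTN he hc x i (f x i) (hf x i) n, ← hEval n i] at h1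
      have h2 : ((conjIso z hzT : MulAut (T o)) (E n i) : G) = z * (E n i) * z⁻¹ := conjIso_apply z hzT _
      rw [h2, hz]
      have h3 : (E (MulAut.conjNormal x n) (f x i) : G) =
          (g' (f x i))⁻¹ * (g' (f x i) * (E (MulAut.conjNormal x n) (f x i)) * (g' (f x i))⁻¹) * g' (f x i) := by
        group
      rw [h3, h1]
      group
    rw [hval]
    exact hinv _ hφ _

end ext

/-- What a non-abelian minimal normal subgroup `N` of `G` with simple factor `S` gives for characters. -/
structure Fac {G : Type u} [Group G] (N : Subgroup G) [N.Normal] (m : ℕ) (S : Type u) [Group S] : Prop where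
  pos : 0 < m
  finite : Finite S
  simple : IsSimpleGroup S
  nonab : ∃ a b : S, a * b ≠ b * a
  ext : ∀ α : S → ℂ, IsIrrCharacter S α →
    (∃ ψ : MulAut S → ℂ, IsIrrCharacter (MulAut S) ψ ∧ ∀ s, ψ (MulAut.conj s) = α s) →
    ∃ χ : G → ℂ, IsIrrCharacter G χ ∧ ∃ E : N ≃* (Fin m → S), ∀ n : N, χ n = ∏ i, α (E n i)
  inv : ∀ {p : ℕ} [Fact p.Prime] (P : Subgroup G), IsPGroup p P → ∀ β : S → ℂ, IsIrrCharacter S β →
    (∀ φ : MulAut S, (∃ k : ℕ, orderOf φ = p ^ k) → ∀ s, β (φ s) = β s) →
    ∃ Θ : N → ℂ, IsIrrCharacter N Θ ∧ (∀ x ∈ P, ∀ n, Θ (MulAut.conjNormal x n) = Θ n) ∧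
      ∃ E : N ≃* (Fin m → S), ∀ n, Θ n = ∏ i, β (E n i)

/-- **Characters of a group with a non-abelian minimal normal subgroup.** -/
theorem exists_fac {G : Type u} [Group G] [Finite G] (N : Subgroup G) [N.Normal]
    (hmin : ∀ M : Subgroup G, M.Normal → M ≤ N → M = ⊥ ∨ M = N)
    (hna : ¬ ∀ x ∈ N, ∀ y ∈ N, Commute x y) : ∃ (m : ℕ) (S : Type u) (_ : Group S), Fac N m S := by
  obtain ⟨m, T, e, hm, hsimple, hTna, hTinj, hTN, hTn, hconj, htrans, he, hcoord⟩ :=
    Cfsg.Agent.PermutationGroups.OnanScott.exists_coordinates N hmin hna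
  set o : Fin m := ⟨0, hm⟩ with ho
  choose g hg using fun i => htrans o i
  refine ⟨m, T o, inferInstance, hm, inferInstance, hsimple o, hTna o, ?_, ?_⟩
  · rintro α hα ⟨ψ, hψ, hψα⟩
    obtain ⟨χ, hχ, hχN⟩ := exists_extension_coord e hTinj hTN hTn hconj he hcoord o g hg hα
      (isIrr_isCharacter hψ) hψα
    exact ⟨χ, hχ, e.trans (MulEquiv.piCongrRight fun i => (conjIso (g i) (hg i)).symm), hχN⟩
  · intro p hp P hP β hβ hinv
    exact exists_invariant_coord e hTinj hTN hconj he hcoord o g hg P hP hβ hinv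

end Cfsg.Agent.H669.TensExt
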