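import Cfsg.Agent.H669.TensExt
import Cfsg.Agent.H672.Over
import Cfsg.Agent.H687.Ext
import Cfsg.Agent.H686.CharKit
import Cfsg.Agent.S0866
import Cfsg.Agent.S4456

/-!
# Groups with two character degrees prime to `p` (helper669, for S4833)

* `exists_over_coprime` : a `P`-invariant irreducible character of degree prime to `p` of a perfect normal subgroup lies
  under an irreducible character of degree prime to `p`;
* `solvable_of_ncard` : at most two degrees prime to `p` imply solvable, given S4834.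
-/

set_option autoImplicit false

namespace Cfsg.Agent.H669.TwoDeg

open Cfsg Cfsg.Agent.Characters.Core Cfsg.Agent.H713 Cfsg.Agent.H672 Cfsg.Agent.H669.TensExt

universe u

/-- An invariant irreducible character of a perfect normal subgroup, of degree prime to the index, extends. -/
theorem extends_of_perfect {H : Type u} [Group H] [Finite H] (N : Subgroup H) [hN : N.Normal]
    (hperf : ∀ f : N →* ℂˣ, f = 1) {ϑ : N → ℂ} (hϑ : IsIrrCharacter N ϑ)
    (hinv : ∀ (g : H) (n : N), ϑ (MulAut.conjNormal g n) = ϑ n) {d : ℕ} (hd : ϑ 1 = d)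
    (hcop : Nat.Coprime N.index d) : ∃ χ : H → ℂ, IsIrrCharacter H χ ∧ ∀ n : N, χ n = ϑ n := by
  refine (S0866.result N ϑ hϑ hinv d hd hcop).2 ⟨1, isCharacter_one, rfl, fun n => ?_⟩
  obtain ⟨k, ρ, hρ, hρϑ⟩ := hϑ
  rw [CharDeep.IrrEquiv.detChar_apply ρ hρ hρϑ ⟨k, ρ, hρϑ⟩ n, ← CharDeep.IrrEquiv.detHom_apply,
    hperf (CharDeep.IrrEquiv.detHom ρ)]
  rfl

theorem exists_over_coprime {G : Type u} [Group G] [Finite G] {p : ℕ} [hp : Fact p.Prime] (N : Subgroup G)
    [hN : N.Normal] (hperf : ∀ f : N →* ℂˣ, f = 1) (P : Sylow p G) {Θ : N → ℂ} (hΘ : IsIrrCharacter N Θ)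
    (hinv : ∀ x ∈ (P : Subgroup G), ∀ n, Θ (MulAut.conjNormal x n) = Θ n) {d : ℕ} (hd : Θ 1 = d) (hpd : ¬ p ∣ d) :
    ∃ χ : G → ℂ, IsIrrCharacter G χ ∧ ¬ p ∣ charDegree χ ∧ Over N.subtype χ Θ := by
  classical
  let _ : Fintype G := Fintype.ofFinite G
  let _ : Fintype N := Fintype.ofFinite N
  obtain ⟨H, hH⟩ : ∃ H : Subgroup G, H = N ⊔ (P : Subgroup G) := ⟨_, rfl⟩
  let _ : Fintype H := Fintype.ofFinite H
  have hNH : N ≤ H := by rw [hH]; exact le_sup_left
  have hPH : (P : Subgroup G) ≤ H := by rw [hH]; exact le_sup_right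
  have hinvH : ∀ x ∈ H, ∀ n, Θ (MulAut.conjNormal x n) = Θ n := by
    have h1 : H ≤ inertia N Θ := by
      rw [hH]
      refine sup_le (le_inertia (isIrr_isClassFunction hΘ)) fun x hx => ?_
      rw [mem_inertia]
      funext n
      exact hinv x hx n
    intro x hx n
    exact congrFun (mem_inertia.1 (h1 hx)) n
  let e : N.subgroupOf H ≃* N := Subgroup.subgroupOfEquivOfLe hNH
  have hcop : Nat.Coprime (N.subgroupOf H).index d := by
    have h1 : ∃ k : ℕ, (N.subgroupOf H).index = p ^ k := by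
      have h2 : N.relIndex H = N.relIndex (P : Subgroup G) := by
        rw [hH]
        exact Subgroup.relIndex_sup_left (P : Subgroup G) N
      have h3 : N.relIndex (P : Subgroup G) ∣ Nat.card (P : Subgroup G) := Subgroup.relIndex_dvd_card _ _
      obtain ⟨k, hk⟩ := P.isPGroup'.exists_card_eq
      rw [hk] at h3
      obtain ⟨b, -, hb⟩ := (Nat.dvd_prime_pow hp.out).1 h3
      exact ⟨b, h2.trans hb⟩
    obtain ⟨k, hk⟩ := h1
    rw [hk]
    exact Nat.Coprime.pow_left _ ((Nat.Prime.coprime_iff_not_dvd hp.out).2 hpd)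
  obtain ⟨η, hη, hηΘ⟩ := extends_of_perfect (N.subgroupOf H) (fun f => by
      have h1 := hperf (f.comp e.symm.toMonoidHom)
      ext x
      have h2 := DFunLike.congr_fun h1 (e x)
      simp only [MonoidHom.comp_apply, MulEquiv.coe_toMonoidHom, MulEquiv.symm_apply_apply] at h2
      rw [h2]
      rfl) (ϑ := Θ ∘ e) (isIrr_comp e.toMonoidHom e.surjective hΘ) (fun g n => by
      have h1 := hinvH g g.2 (e n)
      rw [Function.comp_apply, Function.comp_apply, ← h1]
      rfl) (d := d) (by rw [Function.comp_apply, map_one, hd]) hcop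
  have hη1 : η 1 = d := by
    have h1 := hηΘ 1
    rw [Function.comp_apply, map_one, hd] at h1
    exact h1
  have hind : IsCharacter G (indFun H η) := CharDeep.CliffordCorr.isCharacter_indFun H (isIrr_isCharacter hη)
  obtain ⟨χ, hχ, hχη, c, hc, hpc, -⟩ := H687.exists_irr_constituent (p := p) hind (d := H.index * d) (by
      rw [CharactersDeep.NormalInd.indFun_one, hη1]
      push_cast
      rfl) (by
      intro h
      rcases hp.out.dvd_mul.1 h with h | h
      · have h1 : H.index ∣ (P : Subgroup G).index := Subgroup.index_dvd_of_le hPH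
        exact P.not_dvd_index (h.trans h1)
      · exact hpd h)
  refine ⟨χ, hχ, by rwa [charDegree_of_eq hc], ?_⟩
  have h1 : Over H.subtype χ η := by
    rw [over_iff]
    intro h2
    apply hχη
    rw [CharactersDeep.NormalInd.classInner_indFun H η χ (isIrr_isClassFunction hχ), ← classInner_conj_symm]
    have h3 : classInner (fun h : H => χ h) η = 0 := h2
    rw [h3, map_zero]
  have h2 : N.subtype = H.subtype.comp (Subgroup.inclusion hNH) := rfl
  rw [h2, over_comp_iff _ _ (isIrr_isCharacter hχ) hΘ]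
  refine ⟨η, hη, h1, ?_⟩
  rw [over_iff]
  have h3 : η ∘ (Subgroup.inclusion hNH) = Θ := by
    funext n
    exact hηΘ ⟨⟨n, hNH n.2⟩, n.2⟩
  rw [h3, classInner_irr_self hΘ]
  exact one_ne_zero

/-- Characters of degree one of a power of a non-abelian simple group. -/
theorem hom_eq_one {m : ℕ} {S : Type u} [Group S] [IsSimpleGroup S] (hna : ∃ a b : S, a * b ≠ b * a)
    {N : Type u} [Group N] (E : N ≃* (Fin m → S)) (f : N →* ℂˣ) : f = 1 := by
  have h1 : ∀ g : S →* ℂˣ, g = 1 := by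
    intro g
    rcases g.normal_ker.eq_bot_or_eq_top with h | h
    · exfalso
      obtain ⟨a, b, hab⟩ := hna
      apply hab
      apply (MonoidHom.ker_eq_bot_iff g).1 h
      rw [map_mul, map_mul, mul_comm]
    · exact MonoidHom.ker_eq_top_iff.1 h
  have h2 : f.comp E.symm.toMonoidHom = 1 := by
    apply MonoidHom.pi_ext
    intro i x
    have h3 := DFunLike.congr_fun (h1 ((f.comp E.symm.toMonoidHom).comp (MonoidHom.mulSingle (fun _ : Fin m => S) i))) x
    exact h3
  ext n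
  have h3 := DFunLike.congr_fun h2 (E n)
  simp only [MonoidHom.comp_apply, MulEquiv.coe_toMonoidHom, MulEquiv.symm_apply_apply] at h3
  rw [h3]
  rfl

/-- The degrees prime to `p`. -/
def cdp (p : ℕ) (G : Type u) [Group G] : Set ℕ := {d | ¬ p ∣ d ∧ ∃ χ : IrrCharacter G, charDegree (χ : G → ℂ) = d}

theorem cdp_finite (p : ℕ) (G : Type u) [Group G] [Finite G] : (cdp p G).Finite := by
  have := finite_irr (G := G)
  refine (Set.finite_range fun χ : IrrCharacter G => charDegree (χ : G → ℂ)).subset ?_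
  rintro d ⟨-, χ, h⟩
  exact ⟨χ, h⟩

theorem cdp_comp {p : ℕ} {G : Type u} [Group G] {H : Type u} [Group H] (f : G →* H) (hf : Function.Surjective f) :
    cdp p H ⊆ cdp p G := by
  rintro d ⟨hd, χ, h⟩
  refine ⟨hd, ⟨(χ : H → ℂ) ∘ f, isIrr_comp f hf χ.2⟩, ?_⟩
  rw [← h]
  obtain ⟨n, -, hn⟩ := isIrr_apply_one χ.2
  rw [charDegree_of_eq hn]
  apply charDegree_of_eq
  change (χ : H → ℂ) (f 1) = n
  rw [map_one, hn]

theorem mem_cdp {p : ℕ} {G : Type u} [Group G] {χ : G → ℂ} (hχ : IsIrrCharacter G χ) {d : ℕ} (hd : charDegree χ = d)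
    (hpd : ¬ p ∣ d) : d ∈ cdp p G := ⟨hpd, ⟨χ, hχ⟩, hd⟩

theorem one_mem_cdp {p : ℕ} [hp : Fact p.Prime] {G : Type u} [Group G] : 1 ∈ cdp p G :=
  mem_cdp isIrr_one (charDegree_of_eq (n := 1) (by simp)) (fun h => hp.out.one_lt.ne' (Nat.dvd_one.1 h))

/-- Conclusion of S4834. -/
def Row (p : ℕ) (S : Type u) [Group S] : Prop :=
  ∃ α β : Cfsg.IrrCharacter S, Cfsg.charDegree (α : S → ℂ) ≠ 1 ∧ Cfsg.charDegree (β : S → ℂ) ≠ 1 ∧
      ¬ p ∣ Cfsg.charDegree (α : S → ℂ) ∧ ¬ p ∣ Cfsg.charDegree (β : S → ℂ) ∧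
      (∃ ψ : Cfsg.IrrCharacter (MulAut S), ∀ s : S, (ψ : MulAut S → ℂ) (MulAut.conj s) = (α : S → ℂ) s) ∧
      ¬ Cfsg.charDegree (β : S → ℂ) ∣ Cfsg.charDegree (α : S → ℂ) ∧
      (∀ φ : MulAut S, (∃ k : ℕ, orderOf φ = p ^ k) → ∀ s : S, (β : S → ℂ) (φ s) = (β : S → ℂ) s)

/-- Three degrees prime to `p`, if a minimal normal subgroup is not abelian. -/
theorem three_le {G : Type u} [Group G] [Finite G] {p : ℕ} [hp : Fact p.Prime]
    (hrow : ∀ (S : Type u) [Group S] [Finite S] [IsSimpleGroup S], (∃ a b : S, a * b ≠ b * a) → Row p S)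
    (N : Subgroup G) [N.Normal] (hmin : ∀ M : Subgroup G, M.Normal → M ≤ N → M = ⊥ ∨ M = N)
    (hna : ¬ ∀ x ∈ N, ∀ y ∈ N, Commute x y) : 2 < (cdp p G).ncard := by
  classical
  obtain ⟨m, S, _, hF⟩ := exists_fac N hmin hna
  have := hF.finite
  have := hF.simple
  have hm := hF.pos
  obtain ⟨α, β, ha1, hb1, hpa, hpb, ⟨ψ, hψ⟩, hab, hinv⟩ := hrow S hF.nonab
  set a := charDegree (α : S → ℂ) with ha
  set b := charDegree (β : S → ℂ) with hb
  have hpow : ∀ {a : ℕ}, ¬ p ∣ a → ¬ p ∣ a ^ m := fun h h' => h (hp.out.dvd_of_dvd_pow h')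
  have hne : ∀ {a : ℕ}, a ≠ 1 → a ^ m ≠ 1 := fun h h' => (Nat.pow_eq_one.1 h').elim h hm.ne'
  -- the first character
  obtain ⟨χ, hχ, E, hχE⟩ := hF.ext α α.2 ⟨ψ, ψ.2, hψ⟩
  have hχ1 : charDegree χ = a ^ m := by
    apply charDegree_of_eq
    have h1 := hχE 1
    simp only [map_one, Pi.one_apply, Finset.prod_const, Finset.card_univ, Fintype.card_fin,
      OneMemClass.coe_one] at h1
    rw [h1, ← coe_charDegree α.2, ← ha]
    push_cast
    rfl
  -- the second character
  obtain ⟨P⟩ : Nonempty (Sylow p G) := inferInstance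
  obtain ⟨Θ, hΘ, hΘP, E', hΘE⟩ := hF.inv (P : Subgroup G) P.isPGroup' β β.2 hinv
  have hΘ1 : Θ 1 = ((b ^ m : ℕ) : ℂ) := by
    rw [hΘE, map_one]
    simp only [Pi.one_apply, Finset.prod_const, Finset.card_univ, Fintype.card_fin]
    rw [← coe_charDegree β.2, ← hb]
    push_cast
    rfl
  obtain ⟨χ', hχ', hpχ', hover⟩ := exists_over_coprime N (hom_eq_one hF.nonab E) P hΘ hΘP hΘ1 (hpow hpb)
  have hdvd : b ^ m ∣ charDegree χ' := by
    have h1 := (charDegree_dvd_of_over N hχ' hΘ hover).1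
    rwa [charDegree_of_eq hΘ1] at h1
  have h1 : (1 : ℕ) ∈ cdp p G := one_mem_cdp
  have h2 : a ^ m ∈ cdp p G := mem_cdp hχ hχ1 (hpow hpa)
  have h3 : charDegree χ' ∈ cdp p G := mem_cdp hχ' rfl hpχ'
  have n1 : (1 : ℕ) ≠ a ^ m := (hne ha1).symm
  have n2 : (1 : ℕ) ≠ charDegree χ' := by
    intro h
    rw [← h] at hdvd
    exact hne hb1 (Nat.dvd_one.1 hdvd)
  have n3 : a ^ m ≠ charDegree χ' := by
    intro h
    rw [← h, Nat.pow_dvd_pow_iff hm.ne'] at hdvd
    exact hab hdvd
  have h4 : ({1, a ^ m, charDegree χ'} : Finset ℕ).card = 3 := by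
    rw [Finset.card_eq_three]
    exact ⟨_, _, _, n1, n2, n3, rfl⟩
  have h5 : ((({1, a ^ m, charDegree χ'} : Finset ℕ) : Set ℕ)).ncard ≤ (cdp p G).ncard := by
    apply Set.ncard_le_ncard _ (cdp_finite p G)
    intro x hx
    simp only [Finset.coe_insert, Finset.coe_singleton, Set.mem_insert_iff, Set.mem_singleton_iff] at hx
    rcases hx with rfl | rfl | rfl
    · exact h1
    · exact h2
    · exact h3
  rw [Set.ncard_coe_finset, h4] at h5
  omega

/-- At most two degrees prime to `p`: the group is solvable. -/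
theorem solvable_of_ncard {p : ℕ} [hp : Fact p.Prime]
    (hrow : ∀ (S : Type u) [Group S] [Finite S] [IsSimpleGroup S], (∃ a b : S, a * b ≠ b * a) → Row p S) :
    ∀ (n : ℕ) (G : Type u) [Group G] [Finite G], Nat.card G ≤ n → (cdp p G).ncard ≤ 2 → Group.IsSolvable G := by
  intro n
  induction n with
  | zero =>
    intro G _ _ hn
    have := Nat.card_pos (α := G)
    omega
  | succ n ih =>
    intro G _ _ hn hG
    by_cases htriv : Subsingleton G
    · infer_instance
    rw [not_subsingleton_iff_nontrivial] at htriv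
    have hquot : ∀ (K : Subgroup G) [K.Normal], K ≠ ⊥ → Group.IsSolvable (G ⧸ K) := by
      intro K hK hK1
      refine ih (G ⧸ K) ?_ ((Set.ncard_le_ncard (cdp_comp (QuotientGroup.mk' K) (QuotientGroup.mk'_surjective K))
        (cdp_finite p G)).trans hG)
      have h1 := Subgroup.card_eq_card_quotient_mul_card_subgroup K
      have h2 : 1 < Nat.card K := by
        rw [Subgroup.one_lt_card_iff_ne_bot]
        exact hK1
      have h3 := Nat.card_pos (α := G ⧸ K)
      have h4 : Nat.card (G ⧸ K) * 2 ≤ Nat.card (G ⧸ K) * Nat.card K := Nat.mul_le_mul_left _ h2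
      omega
    obtain ⟨N, hN, hNne, hNmin⟩ : ∃ N : Subgroup G, N.Normal ∧ N ≠ ⊥ ∧
        ∀ M : Subgroup G, M.Normal → M ≤ N → M = ⊥ ∨ M = N := by
      have hfin : {T : Subgroup G | T.Normal ∧ T ≠ ⊥}.Finite := Set.toFinite _
      have hne : {T : Subgroup G | T.Normal ∧ T ≠ ⊥}.Nonempty := ⟨⊤, inferInstance, top_ne_bot⟩
      obtain ⟨T, ⟨hT0, hTn⟩, hTmin⟩ := hfin.exists_minimal hne
      refine ⟨T, hT0, hTn, fun S hS hST => ?_⟩
      by_cases hS0 : S = ⊥
      · exact Or.inl hS0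
      · exact Or.inr (le_antisymm hST (hTmin ⟨hS, hS0⟩ hST))
    have hext : Group.IsSolvable N → Group.IsSolvable G := by
      intro h1
      have h2 := hquot N hNne
      exact Group.isSolvable_of_ker_le_range N.subtype (QuotientGroup.mk' N) (by simp)
    apply hext
    by_cases hna : ∀ x ∈ N, ∀ y ∈ N, Commute x y
    · exact Group.isSolvable_of_comm fun a b => Subtype.ext (hna a a.2 b b.2)
    · exact absurd (three_le hrow N hNmin hna) (by omega)

end Cfsg.Agent.H669.TwoDeg
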