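import Cfsg.Agent.H669.TwoDeg
import Cfsg.Agent.H475.GammaSol
import Cfsg.Agent.SolvableStructure.MinimalNormal
import Cfsg.Agent.Lib.SubnormalJoin

/-!
# Solvable groups with two character degrees prime to `p` (helper669, for S4833)
-/

set_option autoImplicit false

namespace Cfsg.Agent.H669.TwoDeg

open Cfsg Cfsg.Agent.Characters.Core Cfsg.Agent.H713 Cfsg.Agent.H672 Cfsg.Agent.H669.TensExt

universe u

/-- A constituent of an induced character has degree at most the index times the degree. -/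
theorem charDegree_le_index_mul {G : Type u} [Group G] [Finite G] (T : Subgroup G) {χ : G → ℂ} (hχ : IsIrrCharacter G χ)
    {η : T → ℂ} (hη : IsIrrCharacter T η) (h : Over T.subtype χ η) : charDegree χ ≤ T.index * charDegree η := by
  classical
  let _ : Fintype G := Fintype.ofFinite G
  let _ : Fintype T := Fintype.ofFinite T
  have := finite_irr (G := G)
  let _ : Fintype (IrrCharacter G) := Fintype.ofFinite _
  obtain ⟨c, hc, hc'⟩ := CharDeep.CliffordCorr.exists_nat_coeffs_indFun T (isIrr_isCharacter hη)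
  have h1 : c ⟨χ, hχ⟩ ≠ 0 := by
    intro h0
    have h1 := hc' ⟨χ, hχ⟩
    rw [h0, Nat.cast_zero, ← classInner_conj_symm] at h1
    rw [over_iff] at h
    apply h
    have h2 := congrArg (starRingEnd ℂ) h1
    rw [Complex.conj_conj, map_zero] at h2
    exact h2
  have h2 : T.index * charDegree η = ∑ ζ : IrrCharacter G, c ζ * charDegree (ζ : G → ℂ) := by
    have h3 := congrFun hc 1
    rw [CharactersDeep.NormalInd.indFun_one, ← coe_charDegree hη] at h3
    simp only [Finset.sum_apply, Pi.smul_apply, smul_eq_mul] at h3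
    have h4 : ((T.index * charDegree η : ℕ) : ℂ) = ((∑ ζ : IrrCharacter G, c ζ * charDegree (ζ : G → ℂ) : ℕ) : ℂ) := by
      push_cast
      rw [h3]
      exact Finset.sum_congr rfl fun ζ _ => by rw [coe_charDegree ζ.2]
    exact_mod_cast h4
  rw [h2]
  calc charDegree χ ≤ c ⟨χ, hχ⟩ * charDegree χ := Nat.le_mul_of_pos_left _ (Nat.pos_of_ne_zero h1)
    _ ≤ _ := Finset.single_le_sum (f := fun ζ : IrrCharacter G => c ζ * charDegree (ζ : G → ℂ))
      (fun _ _ => Nat.zero_le _) (Finset.mem_univ (⟨χ, hχ⟩ : IrrCharacter G))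

/-- The upward Clifford correspondence over a linear character: degrees. -/
theorem exists_clifford_up {G : Type u} [Group G] [Finite G] (M : Subgroup G) [hM : M.Normal] (lam : M →* ℂˣ)
    (T : Subgroup G) (hT : ∀ g : G, g ∈ T ↔ ∀ n : M, lam ⟨g * n * g⁻¹, hM.conj_mem (n : G) n.2 g⟩ = lam n)
    (hMT : M ≤ T) {η : T → ℂ} (hη : IsIrrCharacter T η) (hηM : ∀ n : M, η ⟨n, hMT n.2⟩ = η 1 * lam n) :
    ∃ X : G → ℂ, IsIrrCharacter G X ∧ charDegree X = T.index * charDegree η := by
  classical
  let _ : Fintype G := Fintype.ofFinite G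
  let _ : Fintype T := Fintype.ofFinite T
  let _ : Fintype M := Fintype.ofFinite M
  have := finite_irr (G := T)
  let _ : Fintype (IrrCharacter T) := Fintype.ofFinite _
  obtain ⟨X, hX, hXη⟩ := exists_over_subtype T hη
  refine ⟨X, hX, le_antisymm (charDegree_le_index_mul T hX hη hXη) ?_⟩
  set θ : M → ℂ := fun n => (lam n : ℂ) with hθ
  have hθi : IsIrrCharacter M θ := Characters.Linear.isIrrCharacter_hom lam
  obtain ⟨e, he⟩ := classInner_isNat (isCharacter_comp M.subtype (isIrr_isCharacter hX)) (isIrr_isCharacter hθi)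
  have hθ1 : θ 1 = ((1 : ℕ) : ℂ) := by rw [hθ]; simp
  have hlow := CharDeep.CliffordCorr.index_mul_le_degree M hθi T (fun g => by
      rw [hT]
      constructor
      · intro h n
        rw [hθ]
        beta_reduce
        rw [h n]
      · intro h n
        exact Units.ext (h n)) (isIrr_isCharacter hX) (e := e) (d := 1) (D := charDegree X) he hθ1
      (coe_charDegree hX).symm
  refine le_trans (Nat.mul_le_mul_left _ ?_) hlow
  rw [mul_one]
  -- `e ≥ η 1`
  obtain ⟨a, ha, ha'⟩ := CharDeep.CliffordCorr.exists_nat_coeffs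
    (isCharacter_comp T.subtype (isIrr_isCharacter hX) : IsCharacter T (X ∘ T.subtype))
  let ι : M →* T := Subgroup.inclusion hMT
  choose b hb using fun ψ : IrrCharacter T =>
    classInner_isNat (isCharacter_comp ι (isIrr_isCharacter ψ.2)) (isIrr_isCharacter hθi)
  have hsum : e = ∑ ψ : IrrCharacter T, a ψ * b ψ := by
    have h1 : X ∘ M.subtype = ∑ ψ : IrrCharacter T, (a ψ : ℂ) • ((ψ : T → ℂ) ∘ ι) := by
      funext n
      have := congrFun ha (ι n)
      simp only [Finset.sum_apply, Pi.smul_apply, smul_eq_mul] at this ⊢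
      exact this
    rw [h1, classInner_sum_left] at he
    simp_rw [classInner_smul_left, hb] at he
    exact_mod_cast he.symm
  have haη : a ⟨η, hη⟩ ≠ 0 := by
    intro h0
    rw [over_iff] at hXη
    apply hXη
    rw [ha' ⟨η, hη⟩, h0, Nat.cast_zero]
  have hbη : b ⟨η, hη⟩ = charDegree η := by
    have h1 := hb ⟨η, hη⟩
    have h2 : η ∘ ι = (η 1) • θ := by
      funext n
      rw [Pi.smul_apply, smul_eq_mul]
      exact hηM n
    change classInner (η ∘ ι) θ = _ at h1
    rw [h2, classInner_smul_left, classInner_irr_self hθi, mul_one, ← coe_charDegree hη] at h1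
    exact_mod_cast h1.symm
  rw [hsum, ← hbη]
  calc b ⟨η, hη⟩ ≤ a ⟨η, hη⟩ * b ⟨η, hη⟩ := Nat.le_mul_of_pos_left _ (Nat.pos_of_ne_zero haη)
    _ ≤ _ := Finset.single_le_sum (f := fun ψ : IrrCharacter T => a ψ * b ψ)
      (fun _ _ => Nat.zero_le _) (Finset.mem_univ (⟨η, hη⟩ : IrrCharacter T))

/-- A nontrivial linear character of a normal `p`-subgroup fixed by a `p`-subgroup. -/
theorem exists_fixed_linear {G : Type u} [Group G] [Finite G] {p : ℕ} [hp : Fact p.Prime] (M : Subgroup G)
    [hM : M.Normal] (hMp : IsPGroup p M) (hM1 : M ≠ ⊥) (P : Subgroup G) (hP : IsPGroup p P) :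
    ∃ lam : M →* ℂˣ, lam ≠ 1 ∧ ∀ x ∈ P, ∀ n : M, lam ⟨x * n * x⁻¹, hM.conj_mem (n : G) n.2 x⟩ = lam n := by
  have hnt : Nontrivial M := (Subgroup.nontrivial_iff_ne_bot M).2 hM1
  have : Group.IsNilpotent M := hMp.isNilpotent
  let act : MulAction P (M →* ℂˣ) :=
    { smul := fun x lam => lam.comp (MulAut.conjNormal (x : G)⁻¹ : MulAut M).toMonoidHom
      one_smul := fun lam => by
        ext n
        change (lam ((MulAut.conjNormal ((1 : P) : G)⁻¹ : MulAut M) n) : ℂ) = lam n
        rw [OneMemClass.coe_one, inv_one, map_one]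
        rfl
      mul_smul := fun x y lam => by
        ext n
        change (lam ((MulAut.conjNormal ((x * y : P) : G)⁻¹ : MulAut M) n) : ℂ) =
          lam ((MulAut.conjNormal (y : G)⁻¹ : MulAut M) ((MulAut.conjNormal (x : G)⁻¹ : MulAut M) n))
        rw [Subgroup.coe_mul, mul_inv_rev, map_mul]
        rfl }
  have hcard : p ∣ Nat.card (M →* ℂˣ) := by
    rw [Characters.Linear.card_hom_eq_index_commutator]
    obtain ⟨k, hk⟩ := (IsPGroup.iff_card.1 hMp)
    have h1 : (commutator M).index ∣ p ^ k := by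
      rw [← hk]
      exact Subgroup.index_dvd_card _
    obtain ⟨j, -, hj⟩ := (Nat.dvd_prime_pow hp.out).1 h1
    rcases Nat.eq_zero_or_pos j with h0 | h0
    · exfalso
      rw [h0, pow_zero, Subgroup.index_eq_one] at hj
      exact (Group.IsSolvable.commutator_lt_top_of_nontrivial M).ne hj
    · rw [hj]
      exact dvd_pow_self p h0.ne'
  have hfin : Finite (M →* ℂˣ) := by
    apply Nat.finite_of_card_ne_zero
    rw [Characters.Linear.card_hom_eq_index_commutator]
    exact Subgroup.index_ne_zero_of_finite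
  obtain ⟨lam, hlam, hne⟩ := hP.exists_fixed_point_of_prime_dvd_card_of_fixed_point (M →* ℂˣ) hcard (a := 1) (by
    intro x
    ext n
    rfl)
  refine ⟨lam, hne.symm, fun x hx n => ?_⟩
  have h1 := hlam (⟨x, hx⟩⁻¹ : P)
  have h2 := DFunLike.congr_fun h1 n
  change lam ((MulAut.conjNormal (((⟨x, hx⟩⁻¹ : P) : G))⁻¹ : MulAut M) n) = lam n at h2
  rw [← h2]
  congr 1
  apply Subtype.ext
  simp

/-- Extension of an invariant linear character of a complemented normal subgroup. -/
theorem exists_hom_ext {T : Type u} [Group T] (M L : Subgroup T) [hM : M.Normal] (hML : M ⊓ L = ⊥)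
    (hsup : ∀ t : T, ∃ m ∈ M, ∃ l ∈ L, t = m * l) (lam : M →* ℂˣ)
    (hinv : ∀ (t : T) (n : M), lam ⟨t * n * t⁻¹, hM.conj_mem (n : T) n.2 t⟩ = lam n) :
    ∃ F : T →* ℂˣ, ∀ n : M, F n = lam n := by
  choose m hm l hl hml using hsup
  have huniq : ∀ t a b, a ∈ M → b ∈ L → t = a * b → m t = a := by
    intro t a b ha hb hab
    have h1 : a⁻¹ * m t = b * (l t)⁻¹ := by
      rw [inv_mul_eq_iff_eq_mul, ← mul_assoc, ← hab, eq_mul_inv_iff_mul_eq]
      exact (hml t).symm
    have h2 : a⁻¹ * m t ∈ M ⊓ L := Subgroup.mem_inf.2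
      ⟨M.mul_mem (M.inv_mem ha) (hm t), by rw [h1]; exact L.mul_mem hb (L.inv_mem (hl t))⟩
    rw [hML, Subgroup.mem_bot] at h2
    exact (inv_mul_eq_one.1 h2).symm
  let F : T →* ℂˣ :=
    { toFun := fun t => lam ⟨m t, hm t⟩
      map_one' := by
        have h1 : m 1 = 1 := huniq 1 1 1 (one_mem _) (one_mem _) (by simp)
        have h2 : (⟨m 1, hm 1⟩ : M) = 1 := Subtype.ext h1
        rw [h2, map_one]
      map_mul' := fun s t => by
        have h1 : m (s * t) = m s * (l s * m t * (l s)⁻¹) := by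
          apply huniq (s * t) _ (l s * l t) (mul_mem (hm s) (hM.conj_mem _ (hm t) _)) (mul_mem (hl s) (hl t))
          nth_rw 1 [hml s, hml t]
          group
        have h2 : (⟨m (s * t), hm (s * t)⟩ : M) =
            ⟨m s, hm s⟩ * ⟨l s * m t * (l s)⁻¹, hM.conj_mem _ (hm t) _⟩ := Subtype.ext h1
        rw [h2, map_mul]
        congr 1
        exact hinv (l s) ⟨m t, hm t⟩ }
  refine ⟨F, fun n => ?_⟩
  change lam ⟨m n, hm n⟩ = lam n
  congr 1
  apply Subtype.ext
  exact huniq n n 1 n.2 (one_mem _) (by simp)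

end Cfsg.Agent.H669.TwoDeg
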